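import Groth.Prelude.Def_AnHol
import Groth.Agent.AnLib.Chart
import Groth.Agent.AnLib.Quotient

/-!
# Affine coordinates around a ℂ-point, in terms of the ambient scheme
-/

open AlgebraicGeometry CategoryTheory TopologicalSpace Opposite Topology

noncomputable section

namespace AnStalkH3

open An Groth.Agent.AnLib

variable {X : Scheme.{0}} [X.Over SC]

/-- Scalars on an open. -/
def strW (W : X.Opens) : ℂ →+* Γ(X, W) :=
  (X.presheaf.map (homOfLE (le_top : W ≤ ⊤)).op).hom.comp (strHom X)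

theorem ev_strW (W : X.Opens) (y : Pts X) (hy : y.pt ∈ W) (c : ℂ) : y.ev W hy (strW W c) = c :=
  (Groth.Agent.AnLib.ev_res y le_top hy (strHom X c)).trans (evTop_strHom y c)

/-- Coordinates around a ℂ-point, vanishing at it. -/
structure Chart (x : Pts X) where
  W : X.Opens
  hW : IsAffineOpen W
  hx : x.pt ∈ W
  n : ℕ
  s : Fin n → Γ(X, W)
  hs0 : ∀ i, x.ev W hx (s i) = 0
  surj : Function.Surjective (MvPolynomial.eval₂Hom (strW W) s)
  exists_pts : ∀ ψ : Γ(X, W) →+* ℂ, (∀ c, ψ (strW W c) = c) →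
    ∃ (y : Pts X) (hy : y.pt ∈ W), ∀ f, y.ev W hy f = ψ f
  nhds_small : ∀ U : Set (Pts X), U ∈ 𝓝 x → ∃ δ > (0 : ℝ), ∀ (y : Pts X) (hy : y.pt ∈ W),
    ‖fun i => y.ev W hy (s i)‖ < δ → y ∈ U
  continuous_coord : ∀ i, Continuous fun y : {y : Pts X // y.pt ∈ W} => y.1.ev W y.2 (s i)
  exists_div : ∀ (U : X.Opens) (f : Γ(X, U)), x.pt ∈ U → ∃ A H : MvPolynomial (Fin n) ℂ,
    MvPolynomial.eval (0 : Fin n → ℂ) H ≠ 0 ∧ ∀ (y : Pts X) (hy : y.pt ∈ W),
      MvPolynomial.eval (fun i => y.ev W hy (s i)) H ≠ 0 → ∃ hyU : y.pt ∈ U,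
        y.ev U hyU f = MvPolynomial.eval (fun i => y.ev W hy (s i)) A /
          MvPolynomial.eval (fun i => y.ev W hy (s i)) H

theorem exists_chart [LocallyOfFiniteType (X ↘ SC)] (x : Pts X) : Nonempty (Chart x) := by
  obtain ⟨W, hW, hxW, -⟩ := exists_isAffineOpen_mem_and_subset (x := x.pt) (U := (⊤ : X.Opens)) trivial
  have : IsAffine W.toScheme := hW
  have : LocallyOfFiniteType (W.toScheme ↘ SC) := inferInstanceAs (LocallyOfFiniteType (W.ι ≫ (X ↘ SC)))
  obtain ⟨n, t₀, ht₀⟩ := exists_surjective_eval₂ (X := W.toScheme)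
  obtain ⟨w, rfl⟩ := exists_map_eq_of_isOpenImmersion W.ι x (by rw [Scheme.Opens.range_ι]; exact hxW)
  -- shift so that the coordinates vanish at the point
  let t : Fin n → Γ(W.toScheme, ⊤) := fun i => t₀ i - strHom W.toScheme (w.evTop (t₀ i))
  have ht : Function.Surjective (MvPolynomial.eval₂Hom (strHom W.toScheme) t) := fun a => by
    obtain ⟨F, rfl⟩ := ht₀ a
    refine ⟨MvPolynomial.eval₂Hom MvPolynomial.C
      (fun i => MvPolynomial.X i + MvPolynomial.C (w.evTop (t₀ i))) F, ?_⟩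
    rw [← RingHom.comp_apply]
    congr 1
    exact MvPolynomial.ringHom_ext (fun c => by simp) (fun i => by simp [t])
  let e : Γ(W.toScheme, ⊤) →+* Γ(X, W) := W.topIso.hom.hom
  have he : Function.Surjective e := W.topIso.commRingCatIsoToRingEquiv.surjective
  have hev : ∀ (y : Pts W.toScheme) (hy : (Pts.map W.ι y).pt ∈ W) (f : Γ(W.toScheme, ⊤)),
      (Pts.map W.ι y).ev W hy (e f) = y.evTop f := by
    intro y hy f
    rw [Pts.ev_map, Pts.evTop, ← Groth.Agent.AnLib.ev_res y (le_top : W.ι ⁻¹ᵁ W ≤ ⊤)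
      (by rw [Pts.pt_map] at hy; exact hy) f]
    congr 1
    change (W.topIso.hom ≫ W.ι.app W) f = _
    rw [Scheme.Opens.ι_app_self, Scheme.Opens.topIso]
    change (X.presheaf.map _ ≫ X.presheaf.map _) f = X.presheaf.map _ f
    erw [← X.presheaf.map_comp]
    rfl
  have hmem : ∀ y : Pts W.toScheme, (Pts.map W.ι y).pt ∈ W := fun y => by
    rw [Pts.pt_map]; exact y.pt.2
  have hinj : Function.Injective e := W.topIso.commRingCatIsoToRingEquiv.injective
  have hstr : ∀ c, e (strHom W.toScheme c) = strW W c := fun c => by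
    have h1 : strHom W.toScheme c = W.ι.appTop (strHom X c) := by
      change ((W.ι ≫ (X ↘ SC)).appTop) _ = _
      rw [Scheme.Hom.comp_appTop]; rfl
    rw [h1, Scheme.Opens.ι_appTop]
    change (X.presheaf.map _ ≫ X.presheaf.map _) (strHom X c) = X.presheaf.map _ (strHom X c)
    erw [← X.presheaf.map_comp]
    rfl
  have hlift : ∀ (y : Pts X), y.pt ∈ W → ∃ z : Pts W.toScheme, Pts.map W.ι z = y := fun y hy =>
    exists_map_eq_of_isOpenImmersion W.ι y (by rw [Scheme.Opens.range_ι]; exact hy)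
  have hcoord : ∀ (z : Pts W.toScheme), (fun i => (Pts.map W.ι z).ev W (hmem z) (e (t i))) =
      coords t z := fun z => funext fun i => hev z _ _
  have hclosed := isClosedEmbedding_coords t ht
  have hc0 : coords t w = 0 := funext fun i => by
    change evalHom w ⊤ trivial (t₀ i - strHom W.toScheme (w.evTop (t₀ i))) = 0
    rw [map_sub]
    change w.evTop (t₀ i) - w.evTop (strHom W.toScheme (w.evTop (t₀ i))) = 0
    rw [evTop_strHom, sub_self]
  refine ⟨⟨W, hW, hxW, n, fun i => e (t i), fun i => ?_, fun a => ?_, fun ψ hψ => ?_, fun U hU => ?_,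
    fun i => ?_, fun U f hxU => ?_⟩⟩
  · exact (hev w _ _).trans (congrFun hc0 i)
  · obtain ⟨b, rfl⟩ := he a
    obtain ⟨F, rfl⟩ := ht b
    refine ⟨F, ?_⟩
    rw [← RingHom.comp_apply]
    congr 1
    exact MvPolynomial.ringHom_ext (fun c => by simp [hstr]) (fun i => by simp)
  · obtain ⟨z, hz⟩ := exists_evTop_eq (X := W.toScheme) (ψ.comp e) (fun c => by
      simp [hstr, hψ])
    refine ⟨Pts.map W.ι z, hmem z, fun f => ?_⟩
    obtain ⟨g, rfl⟩ := he f
    rw [hev]; exact hz g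
  · have hU' : Pts.map W.ι ⁻¹' U ∈ 𝓝 w := (Pts.continuous_map W.ι).continuousAt hU
    rw [hclosed.isInducing.nhds_eq_comap, Filter.mem_comap] at hU'
    obtain ⟨N, hN, hsub⟩ := hU'
    rw [hc0] at hN
    obtain ⟨δ, hδ, hball⟩ := Metric.mem_nhds_iff.1 hN
    refine ⟨δ, hδ, fun y hy hlt => ?_⟩
    obtain ⟨z, rfl⟩ := hlift y hy
    rw [hcoord z] at hlt
    exact hsub (show coords t z ∈ N from hball (mem_ball_zero_iff.2 hlt))
  · refine continuous_def.2 fun V hV => ?_
    rw [isOpen_induced_iff]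
    exact ⟨Pts.basicSet W (e (t i)) V, Pts.isOpen_basicSet _ _ hV,
      Set.ext fun y => ⟨fun ⟨_, h⟩ => h, fun h => ⟨y.2, h⟩⟩⟩
  · have hwU : w.pt ∈ W.ι ⁻¹ᵁ U := by rw [Pts.pt_map] at hxU; exact hxU
    obtain ⟨A, H, hH, hz⟩ := Groth.Agent.AnLib.exists_ev_eq_div t ht (W.ι ⁻¹ᵁ U) (W.ι.app U f) w hwU
    rw [hc0] at hH
    refine ⟨A, H, hH, fun y hy hne => ?_⟩
    obtain ⟨z, rfl⟩ := hlift y hy
    rw [hcoord z] at hne ⊢
    obtain ⟨hzU, h⟩ := hz z hne
    have hU : (Pts.map W.ι z).pt ∈ U := by rw [Pts.pt_map]; exact hzU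
    exact ⟨hU, (Pts.ev_map W.ι z U hU f).trans h⟩

end AnStalkH3
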