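import Groth.Agent.AnStalkH3.Stalk
import Mathlib.AlgebraicGeometry.Noetherian
import Mathlib.RingTheory.LocalRing.RingHom.Basic

/-!
# The comparison map of stalks is an isomorphism modulo every power of the maximal ideal
-/

open AlgebraicGeometry CategoryTheory TopologicalSpace Opposite Topology Filter

noncomputable section

set_option backward.isDefEq.respectTransparency.types false

namespace AnStalkH3

open An

/-- Generic: a weak contraction bound and surjectivity modulo powers give exact contraction. -/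
theorem comap_pow_eq {R S : Type} [CommRing R] [CommRing S] (f : R →+* S) (m : Ideal R)
    (hsurj : ∀ (k : ℕ) (b : S), ∃ a, f a - b ∈ m.map f ^ k)
    (hweak : ∃ c, ∀ k a, f a ∈ m.map f ^ k → a ∈ m ^ (k - c)) (n : ℕ) :
    ((m.map f) ^ n).comap f = m ^ n := by
  obtain ⟨c, hc⟩ := hweak
  refine le_antisymm (fun a ha => ?_) (Ideal.le_comap_pow f (n := n) |>.trans' ?_)
  · rw [Ideal.mem_comap, ← Ideal.map_pow] at ha
    suffices h : ∀ b ∈ (m ^ n).map f, ∃ a' ∈ m ^ n, f a' - b ∈ m.map f ^ (n + c) by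
      obtain ⟨a', ha', h'⟩ := h _ ha
      have := hc (n + c) (a' - a) (by rwa [map_sub])
      rw [Nat.add_sub_cancel] at this
      simpa using sub_mem ha' this
    intro b hb
    induction hb using Submodule.span_induction with
    | mem b hb => obtain ⟨a', ha', rfl⟩ := hb; exact ⟨a', ha', by simp⟩
    | zero => exact ⟨0, zero_mem _, by simp⟩
    | add b b' _ _ hb hb' =>
      obtain ⟨a₁, h₁, e₁⟩ := hb
      obtain ⟨a₂, h₂, e₂⟩ := hb'
      exact ⟨a₁ + a₂, add_mem h₁ h₂, by rw [map_add, add_sub_add_comm]; exact add_mem e₁ e₂⟩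
    | smul s b _ hb =>
      obtain ⟨a₁, h₁, e₁⟩ := hb
      obtain ⟨r, hr⟩ := hsurj (n + c) s
      refine ⟨r * a₁, Ideal.mul_mem_left _ r h₁, ?_⟩
      rw [map_mul, smul_eq_mul,
        show f r * f a₁ - s * b = (f r - s) * f a₁ + s * (f a₁ - b) by ring]
      exact add_mem (Ideal.mul_mem_right _ _ hr) (Ideal.mul_mem_left _ _ e₁)
  · exact Ideal.pow_right_mono Ideal.le_comap_map n

variable {X : Scheme.{0}} [X.Over SC] [LocallyOfFiniteType (X ↘ SC)] (x : Pts X)

instance isNoetherianRing_anStalk : IsNoetherianRing (AnStalk x) :=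
  let D := (exists_chart x).some
  isNoetherianRing_of_surjective _ _ D.π D.π_surjective

instance nontrivial_anStalk : Nontrivial (AnStalk x) := by
  refine ⟨⟨1, 0, fun h => ?_⟩⟩
  have h' : germAt (⊤ : Opens (top X)) trivial (1 : holSub (⊤ : Opens (top X))) =
      germAt (⊤ : Opens (top X)) (x := x) trivial 0 := by
    rw [show germAt (⊤ : Opens (top X)) (x := x) trivial (1 : holSub (⊤ : Opens (top X))) = 1 from
      map_one _, show germAt (⊤ : Opens (top X)) (x := x) trivial (0 : holSub (⊤ : Opens (top X))) = 0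
      from map_zero _]
    exact h
  obtain ⟨N, hN, hN'⟩ := eventually_of_germAt_eq h'
  exact one_ne_zero (hN' x trivial trivial (mem_of_mem_nhds hN))

instance isLocalRing_anStalk : IsLocalRing (AnStalk x) :=
  let D := (exists_chart x).some
  IsLocalRing.of_surjective' D.π D.π_surjective

variable {x}

theorem maximalIdeal_anStalk (D : Chart x) :
    IsLocalRing.maximalIdeal (AnStalk x) =
      (IsLocalRing.maximalIdeal (O D.Coord)).map D.π := by
  refine ((IsLocalRing.maximalIdeal.isMaximal _).map_of_surjective_of_ker_le D.π_surjective ?_ |>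
    IsLocalRing.eq_maximalIdeal).symm
  exact IsLocalRing.le_maximalIdeal (RingHom.ker_ne_top _)

theorem mem_primeIdeal (D : Chart x) (a : Γ(X, D.W)) :
    a ∈ (D.hW.primeIdealOf ⟨x.pt, D.hx⟩).asIdeal ↔ x.ev D.W D.hx a = 0 := by
  letI : Algebra Γ(X, D.W) (X.presheaf.stalk x.pt) :=
    (X.presheaf.germ D.W x.pt D.hx).hom.toAlgebra
  haveI : IsLocalization.AtPrime (X.presheaf.stalk x.pt) (D.hW.primeIdealOf ⟨x.pt, D.hx⟩).asIdeal :=
    D.hW.isLocalization_stalk ⟨x.pt, D.hx⟩
  rw [← not_iff_not, ← Ne, Groth.Agent.AnLib.ev_ne_zero_iff, Scheme.mem_basicOpen X a x.pt D.hx]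
  exact (IsLocalization.AtPrime.isUnit_to_map_iff (X.presheaf.stalk x.pt) _ a).symm

theorem maximalIdeal_stalk (D : Chart x) :
    IsLocalRing.maximalIdeal (X.presheaf.stalk x.pt) =
      Ideal.span (Set.range fun i => X.presheaf.germ D.W x.pt D.hx (D.s i)) := by
  letI : Algebra Γ(X, D.W) (X.presheaf.stalk x.pt) :=
    (X.presheaf.germ D.W x.pt D.hx).hom.toAlgebra
  haveI : IsLocalization.AtPrime (X.presheaf.stalk x.pt) (D.hW.primeIdealOf ⟨x.pt, D.hx⟩).asIdeal :=
    D.hW.isLocalization_stalk ⟨x.pt, D.hx⟩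
  have hp : (D.hW.primeIdealOf ⟨x.pt, D.hx⟩).asIdeal = Ideal.span (Set.range D.s) := by
    refine le_antisymm (fun a ha => ?_) (Ideal.span_le.2 ?_)
    · obtain ⟨p, rfl⟩ := D.surj a
      have hev : x.ev D.W D.hx (MvPolynomial.eval₂Hom (strW D.W) D.s p) = MvPolynomial.constantCoeff p := by
        exact congrArg (fun ψ : MvPolynomial (Fin D.n) ℂ →+* ℂ => ψ p)
          (MvPolynomial.ringHom_ext
            (f := (Groth.Agent.AnLib.evalHom x D.W D.hx).comp (MvPolynomial.eval₂Hom (strW D.W) D.s))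
            (g := MvPolynomial.constantCoeff)
            (fun c => by simpa [Groth.Agent.AnLib.ev_eq] using ev_strW D.W x D.hx c)
            (fun i => by simpa [Groth.Agent.AnLib.ev_eq] using D.hs0 i))
      rw [mem_primeIdeal, hev] at ha
      have hmem : p ∈ Ideal.span (Set.range (MvPolynomial.X : Fin D.n → MvPolynomial (Fin D.n) ℂ)) := by
        rw [← Set.image_univ, MvPolynomial.mem_ideal_span_X_image]
        intro m hm
        by_contra hcon
        push Not at hcon
        have : m = 0 := Finsupp.ext fun i => by simpa using hcon i (Set.mem_univ i)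
        rw [this, MvPolynomial.mem_support_iff] at hm
        exact hm ha
      have := Ideal.mem_map_of_mem (MvPolynomial.eval₂Hom (strW D.W) D.s) hmem
      rw [Ideal.map_span, ← Set.range_comp] at this
      simpa [Function.comp_def] using this
    · rintro _ ⟨i, rfl⟩
      exact (mem_primeIdeal D _).2 (D.hs0 i)
  rw [← IsLocalization.AtPrime.map_eq_maximalIdeal (D.hW.primeIdealOf ⟨x.pt, D.hx⟩).asIdeal
    (X.presheaf.stalk x.pt), hp, Ideal.map_span, ← Set.range_comp]
  rfl

theorem map_maximalIdeal :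
    (IsLocalRing.maximalIdeal (X.presheaf.stalk x.pt)).map (φ x) =
      IsLocalRing.maximalIdeal (AnStalk x) := by
  obtain ⟨D⟩ := exists_chart x
  rw [maximalIdeal_stalk D, maximalIdeal_anStalk D, maximalIdeal_eq_coords, Ideal.map_span,
    Ideal.map_span, ← Set.range_comp, ← Set.range_comp]
  congr 1
  refine congrArg Set.range (funext fun i => ?_)
  have h := D.φ_germ (MvPolynomial.X i)
  rwa [MvPolynomial.eval₂Hom_X'] at h

instance isLocalHom_φ : IsLocalHom (φ x) :=
  ((IsLocalRing.local_hom_TFAE (φ x)).out 0 2).2 (map_maximalIdeal (x := x)).le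

theorem exists_sub_mem (k : ℕ) (b : AnStalk x) :
    ∃ a, φ x a - b ∈ (IsLocalRing.maximalIdeal (X.presheaf.stalk x.pt)).map (φ x) ^ k := by
  obtain ⟨D⟩ := exists_chart x
  obtain ⟨f, rfl⟩ := D.π_surjective b
  obtain ⟨p, hp⟩ := exists_polyGerm_sub_mem D.n k f
  refine ⟨X.presheaf.germ D.W x.pt D.hx (MvPolynomial.eval₂Hom (strW D.W) D.s p), ?_⟩
  rw [D.φ_germ, map_maximalIdeal, maximalIdeal_anStalk D, ← Ideal.map_pow, ← map_sub]
  exact Ideal.mem_map_of_mem _ (by rw [← neg_sub]; exact neg_mem hp)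

theorem exists_weak [IsReduced X] :
    ∃ c, ∀ k a, φ x a ∈ (IsLocalRing.maximalIdeal (X.presheaf.stalk x.pt)).map (φ x) ^ k →
      a ∈ IsLocalRing.maximalIdeal (X.presheaf.stalk x.pt) ^ (k - c) := by
  obtain ⟨D⟩ := exists_chart x
  letI : Algebra ℂ Γ(X, D.W) := (strW D.W).toAlgebra
  have haev : ∀ p, MvPolynomial.aeval D.s p = MvPolynomial.eval₂Hom (strW D.W) D.s p := fun p => rfl
  have hfg : Algebra.FiniteType ℂ Γ(X, D.W) :=
    Algebra.FiniteType.of_surjective (MvPolynomial.aeval D.s) fun a => by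
      obtain ⟨p, rfl⟩ := D.surj a; exact ⟨p, rfl⟩
  haveI : _root_.IsReduced Γ(X, D.W) := IsReduced.component_reduced D.W
  let xev : Γ(X, D.W) →ₐ[ℂ] ℂ :=
    { Groth.Agent.AnLib.evalHom x D.W D.hx with commutes' := fun c => ev_strW D.W x D.hx c }
  have hgen : ∀ r : Γ(X, D.W), r - algebraMap ℂ Γ(X, D.W) (xev r) ∈ Ideal.span (Set.range D.s) := by
    intro r
    obtain ⟨p, rfl⟩ := D.surj r
    induction p using MvPolynomial.induction_on with
    | C c =>
      have : xev (strW D.W c) = c := ev_strW D.W x D.hx c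
      simp [MvPolynomial.eval₂Hom_C, this, RingHom.algebraMap_toAlgebra]
    | add p q hp hq => simp only [map_add, add_sub_add_comm]; exact add_mem hp hq
    | mul_X p i hp =>
      have : xev (D.s i) = 0 := D.hs0 i
      simp only [map_mul, MvPolynomial.eval₂Hom_X', this, mul_zero, map_zero, sub_zero]
      exact Ideal.mul_mem_left _ _ (Ideal.subset_span ⟨i, rfl⟩)
  obtain ⟨c, hc⟩ := exists_rees_bound hfg D.s xev D.hs0 hgen
  refine ⟨c, fun k a ha => ?_⟩
  letI alg : Algebra Γ(X, D.W) (X.presheaf.stalk x.pt) :=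
    (X.presheaf.germ D.W x.pt D.hx).hom.toAlgebra
  haveI : IsLocalization.AtPrime (X.presheaf.stalk x.pt) (D.hW.primeIdealOf ⟨x.pt, D.hx⟩).asIdeal :=
    D.hW.isLocalization_stalk ⟨x.pt, D.hx⟩
  obtain ⟨b, ⟨u, hu⟩, hb⟩ := IsLocalization.exists_mk'_eq
    (D.hW.primeIdealOf ⟨x.pt, D.hx⟩).asIdeal.primeCompl a
  have hau : algebraMap _ (X.presheaf.stalk x.pt) b = a * algebraMap _ _ u := by
    rw [← hb]; exact (IsLocalization.mk'_spec _ b ⟨u, hu⟩).symm
  -- the numerator is bounded
  have hφb : φ x (algebraMap _ _ b) ∈ (IsLocalRing.maximalIdeal (X.presheaf.stalk x.pt)).map (φ x) ^ k := by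
    rw [hau, map_mul]; exact Ideal.mul_mem_right _ _ ha
  rw [map_maximalIdeal, maximalIdeal_anStalk D, ← Ideal.map_pow,
    Ideal.mem_map_iff_of_surjective _ D.π_surjective] at hφb
  obtain ⟨q, hq, hqb⟩ := hφb
  obtain ⟨p, rfl⟩ := D.surj b
  obtain ⟨hpol, ep⟩ := polyGerm_eq D.n p
  obtain ⟨g, hg, C, rfl, hC⟩ := maximalIdeal_pow_le_bound k hq
  have h0 : D.π (AnStalkH3.mk _ (hpol.add hg.neg)) = 0 := by
    rw [show AnStalkH3.mk _ (hpol.add hg.neg) = polyGerm D.n p - AnStalkH3.mk g hg by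
      rw [ep]; rfl, map_sub, sub_eq_zero, hqb]
    exact (D.φ_germ p).symm
  obtain ⟨N, hN, hzero⟩ := (D.π_eq_zero_iff _).1 h0
  obtain ⟨δ, hδ, hδsub⟩ := D.nhds_small N hN
  obtain ⟨ε, hε, hεsub⟩ := Metric.mem_nhds_iff.1 hC
  have hbound : Bound D.s (MvPolynomial.eval₂Hom (strW D.W) D.s p) k := by
    refine ⟨C, min δ ε, lt_min hδ hε, fun ψ hψ => ?_⟩
    obtain ⟨y, hy, hyψ⟩ := D.exists_pts ψ.toRingHom (fun c => ψ.commutes c)
    have hco : D.co y hy = fun i => ψ (D.s i) := funext fun i => hyψ _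
    have h1 : (fun i => y.ev D.W hy (D.s i)) = fun i => ψ (D.s i) := funext fun i => hyψ _
    have hz := hzero y (hδsub y hy (by rw [h1]; exact hψ.trans_le (min_le_left _ _))) hy
    simp only [Pi.add_apply, Pi.neg_apply, ← sub_eq_add_neg, sub_eq_zero, hco] at hz
    have hev : MvPolynomial.eval (fun i => ψ (D.s i)) p = ψ (MvPolynomial.eval₂Hom (strW D.W) D.s p) := by
      rw [← haev, ← AlgHom.comp_apply, MvPolynomial.comp_aeval, MvPolynomial.aeval_eq_eval]
    rw [← hev, hz]
    exact hεsub (mem_ball_zero_iff.2 (hψ.trans_le (min_le_right _ _)))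
  obtain ⟨t, ht, htm⟩ := hc k _ hbound
  have hker : RingHom.ker xev = (D.hW.primeIdealOf ⟨x.pt, D.hx⟩).asIdeal :=
    Ideal.ext fun r => (mem_primeIdeal D r).symm
  rw [hker] at htm
  have hunit : IsUnit (algebraMap _ (X.presheaf.stalk x.pt) t * algebraMap _ _ u) :=
    ((IsLocalization.AtPrime.isUnit_to_map_iff (X.presheaf.stalk x.pt) _ t).2
      (fun h => ht ((mem_primeIdeal D t).1 h))).mul
      ((IsLocalization.AtPrime.isUnit_to_map_iff (X.presheaf.stalk x.pt) _ u).2 hu)
  refine (Ideal.unit_mul_mem_iff_mem _ hunit).1 ?_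
  rw [show algebraMap _ (X.presheaf.stalk x.pt) t * algebraMap _ _ u * a =
      algebraMap _ _ (t * MvPolynomial.eval₂Hom (strW D.W) D.s p) by rw [map_mul, hau]; ring,
    ← IsLocalization.AtPrime.map_eq_maximalIdeal (D.hW.primeIdealOf ⟨x.pt, D.hx⟩).asIdeal
      (X.presheaf.stalk x.pt), ← Ideal.map_pow]
  exact Ideal.mem_map_of_mem _ htm

theorem comap_pow [IsReduced X] (n : ℕ) :
    (((IsLocalRing.maximalIdeal (X.presheaf.stalk x.pt)).map (φ x)) ^ n).comap (φ x) =
      IsLocalRing.maximalIdeal (X.presheaf.stalk x.pt) ^ n :=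
  comap_pow_eq _ _ exists_sub_mem exists_weak n

end AnStalkH3
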