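import Groth.Agent.AnStalkH3.Germs
import Mathlib.Analysis.Calculus.InverseFunctionTheorem.FDeriv
import Mathlib.Analysis.Calculus.FDeriv.OfCompLeft
import Mathlib.Analysis.Calculus.MeanValue
import Mathlib.Analysis.Normed.Module.FiniteDimension

/-!
# The holomorphic inverse function theorem and solving `z = U(z) w`
-/

noncomputable section

open Metric Set Filter Topology
open scoped Topology

namespace AnStalkH3

variable {E : Type} [NormedAddCommGroup E] [NormedSpace ℂ E] [FiniteDimensional ℂ E]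

/-- Holomorphic functions are continuously differentiable. -/
theorem continuousAt_fderiv {F : Type} [NormedAddCommGroup F] [NormedSpace ℂ F]
    [FiniteDimensional ℂ F] {f : E → F} {U : Set E} (hU : IsOpen U) (hf : DifferentiableOn ℂ f U)
    {x : E} (hx : x ∈ U) : ContinuousAt (fderiv ℂ f) x := by
  rw [continuousAt_clm_apply]
  intro v
  -- reduce to scalar functions
  let b := Module.finBasis ℂ F
  let e : F →L[ℂ] (Fin (Module.finrank ℂ F) → ℂ) :=
    (b.equivFun.toContinuousLinearEquiv : F →L[ℂ] (Fin (Module.finrank ℂ F) → ℂ))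
  obtain ⟨δ, hδ, hsub⟩ := Metric.isOpen_iff.1 hU x hx
  set r := δ / (2 * (‖v‖ + 1)) with hr
  have hr0 : 0 < r := by positivity
  have hmem : ∀ p ∈ ball x (δ / 2) ×ˢ ball (0 : ℂ) r, p.1 + p.2 • v ∈ U := by
    rintro ⟨y, t⟩ ⟨hy, ht⟩
    refine hsub ?_
    rw [mem_ball, dist_eq_norm] at hy ⊢
    rw [mem_ball_zero_iff] at ht
    calc ‖y + t • v - x‖ ≤ ‖y - x‖ + ‖t • v‖ := by rw [add_sub_right_comm]; exact norm_add_le _ _
      _ < δ / 2 + δ / 2 := by
        refine add_lt_add_of_lt_of_le hy ?_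
        rw [norm_smul]
        calc ‖t‖ * ‖v‖ ≤ r * (‖v‖ + 1) := by gcongr; linarith
          _ = δ / 2 := by rw [hr]; field_simp
      _ = δ := by ring
  have key : ∀ i, ContinuousAt (fun y => e (fderiv ℂ f y v) i) x := by
    intro i
    have hd : DifferentiableOn ℂ (fun p : E × ℂ => e (f (p.1 + p.2 • v)) i)
        (ball x (δ / 2) ×ˢ ball (0 : ℂ) r) :=
      differentiableOn_pi.1 (e.differentiable.comp_differentiableOn
        (hf.comp (f := fun p : E × ℂ => p.1 + p.2 • v) (by fun_prop) hmem)) i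
    have hs := differentiableOn_slope isOpen_ball hd
    have hs' : ContinuousAt (fun y : E => slope (fun p : E × ℂ => e (f (p.1 + p.2 • v)) i) (y, 0)) x :=
      ((hs.comp (f := fun y : E => (y, (0 : ℂ))) (by fun_prop)
        fun y hy => ⟨hy, mem_ball_self hr0⟩).continuousOn).continuousAt
        (ball_mem_nhds _ (half_pos hδ))
    refine hs'.congr ?_
    filter_upwards [ball_mem_nhds x (half_pos hδ)] with y hy
    have hy' : y ∈ U := hsub (ball_subset_ball (by linarith) hy)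
    change dslope (fun t => e (f (y + t • v)) i) 0 0 = _
    rw [dslope_same]
    have h1 : HasDerivAt (fun t : ℂ => y + t • v) v 0 := by
      simpa using ((hasDerivAt_id (0 : ℂ)).smul_const v).const_add y
    have h2 : HasFDerivAt f (fderiv ℂ f y) (y + (0 : ℂ) • v) := by
      simpa using (hf.differentiableAt (hU.mem_nhds hy')).hasFDerivAt
    have h3 := e.hasFDerivAt.comp_hasDerivAt (0 : ℂ) (h2.comp_hasDerivAt (0 : ℂ) h1)
    exact ((hasFDerivAt_apply i _).comp_hasDerivAt (0 : ℂ) h3).deriv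
  have he : ContinuousAt (fun y => e (fderiv ℂ f y v)) x := continuousAt_pi.2 key
  have : (fun y => fderiv ℂ f y v) =
      (b.equivFun.toContinuousLinearEquiv.symm : _ → F) ∘ fun y => e (fderiv ℂ f y v) :=
    funext fun y => (b.equivFun.toContinuousLinearEquiv.symm_apply_apply _).symm
  rw [this]
  exact (ContinuousLinearEquiv.continuous _).continuousAt.comp he

/-- Solutions of `z = U(z) w` near the origin are holomorphic in `w`. -/
theorem exists_solution {m n : ℕ} (u : Fin n → Fin m → (Fin n → ℂ) → ℂ) (hu : ∀ i l, HolAt (u i l)) :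
    ∃ H : (Fin m → ℂ) → Fin n → ℂ, (∀ i, HolAt fun w => H w i) ∧ H 0 = 0 ∧ ∃ ε > (0 : ℝ),
      ∀ w z, ‖w‖ < ε → ‖z‖ < ε → (∀ i, z i = ∑ l, u i l z * w l) → z = H w := by
  classical
  let Ψ : (Fin m → ℂ) × (Fin n → ℂ) → (Fin m → ℂ) × (Fin n → ℂ) :=
    fun p => (p.1, fun i => p.2 i - ∑ l, u i l p.2 * p.1 l)
  choose r hr hd using hu
  obtain ⟨R, hR, hdR⟩ : ∃ R > (0 : ℝ), ∀ i l, DifferentiableOn ℂ (u i l) (ball 0 R) := by
    rcases isEmpty_or_nonempty (Fin n × Fin m) with he | hne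
    · exact ⟨1, one_pos, fun i l => (he.false (i, l)).elim⟩
    · refine ⟨Finset.univ.inf' Finset.univ_nonempty (fun p : Fin n × Fin m => r p.1 p.2),
        (Finset.lt_inf'_iff _).2 fun p _ => hr _ _, fun i l => (hd i l).mono
          (ball_subset_ball (Finset.inf'_le _ (Finset.mem_univ (i, l))))⟩
  set S : Set ((Fin m → ℂ) × (Fin n → ℂ)) := univ ×ˢ ball (0 : Fin n → ℂ) R
  have hSo : IsOpen S := isOpen_univ.prod isOpen_ball
  have h0S : ((0 : Fin m → ℂ), (0 : Fin n → ℂ)) ∈ S := ⟨trivial, mem_ball_self hR⟩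
  have hΨ : DifferentiableOn ℂ Ψ S := by
    refine (differentiable_fst.differentiableOn).prodMk (differentiableOn_pi.2 fun i => ?_)
    refine DifferentiableOn.fun_sub ?_ (DifferentiableOn.fun_sum fun l _ => ?_)
    · exact differentiableOn_pi.1 (differentiable_snd.differentiableOn (E := (Fin m → ℂ) × (Fin n → ℂ))) i
    · exact ((hdR i l).comp differentiable_snd.differentiableOn fun p hp => hp.2).mul
        (differentiableOn_pi.1 (differentiable_fst.differentiableOn) l)
  have hstrict : HasStrictFDerivAt Ψ (fderiv ℂ Ψ 0) 0 :=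
    hasStrictFDerivAt_of_hasFDerivAt_of_continuousAt
      (by filter_upwards [hSo.mem_nhds h0S] with p hp
          exact (hΨ.differentiableAt (hSo.mem_nhds hp)).hasFDerivAt)
      (continuousAt_fderiv hSo hΨ h0S)
  -- the derivative at the origin
  have hL : Function.Injective (fderiv ℂ Ψ 0) := by
    refine (injective_iff_map_eq_zero _).2 fun ⟨a, b⟩ hab => ?_
    have hfst : HasFDerivAt (fun p => (Ψ p).1)
        ((ContinuousLinearMap.fst ℂ (Fin m → ℂ) (Fin n → ℂ)).comp (fderiv ℂ Ψ 0)) 0 :=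
      hasFDerivAt_fst.comp 0 hstrict.hasFDerivAt
    have hfst' : HasFDerivAt (fun p => (Ψ p).1) (ContinuousLinearMap.fst ℂ (Fin m → ℂ) (Fin n → ℂ)) 0 :=
      hasFDerivAt_fst
    have ha : a = 0 := by
      have := congrArg (fun L => L (a, b)) (hfst.unique hfst')
      simp [hab] at this
      exact this.symm
    subst ha
    -- along `(0, b)` the map is the identity
    have hline : HasFDerivAt (fun z : Fin n → ℂ => Ψ (0, z))
        ((fderiv ℂ Ψ 0).comp (ContinuousLinearMap.inr ℂ (Fin m → ℂ) (Fin n → ℂ))) 0 :=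
      hstrict.hasFDerivAt.comp (0 : Fin n → ℂ) (hasFDerivAt_prodMk_right (0 : Fin m → ℂ) 0)
    have heq : (fun z : Fin n → ℂ => Ψ (0, z)) = fun z => ((0 : Fin m → ℂ), z) := by
      funext z; simp [Ψ]
    rw [heq] at hline
    have := congrArg (fun L => L b) (hline.unique (hasFDerivAt_prodMk_right (0 : Fin m → ℂ) 0))
    simp [hab] at this
    simp [← this]
  let Le : ((Fin m → ℂ) × (Fin n → ℂ)) ≃L[ℂ] ((Fin m → ℂ) × (Fin n → ℂ)) :=
    (LinearEquiv.ofInjectiveEndo (fderiv ℂ Ψ 0).toLinearMap hL).toContinuousLinearEquiv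
  have hLe : HasStrictFDerivAt Ψ (Le : ((Fin m → ℂ) × (Fin n → ℂ)) →L[ℂ] _) 0 := by
    rwa [show (Le : ((Fin m → ℂ) × (Fin n → ℂ)) →L[ℂ] _) = fderiv ℂ Ψ 0 from
      ContinuousLinearMap.ext fun q => rfl]
  let φ := hLe.toOpenPartialHomeomorph Ψ
  have hsrc : (0 : (Fin m → ℂ) × (Fin n → ℂ)) ∈ φ.source := hLe.mem_toOpenPartialHomeomorph_source
  have hΨ0 : Ψ 0 = 0 := by ext <;> simp [Ψ]
  have htgt : (0 : (Fin m → ℂ) × (Fin n → ℂ)) ∈ φ.target := by
    have := φ.map_source hsrc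
    rwa [show φ 0 = 0 from hΨ0] at this
  have hsymm0 : φ.symm 0 = 0 := by
    have := φ.left_inv hsrc
    rwa [show φ 0 = 0 from hΨ0] at this
  -- the inverse is differentiable near the origin
  have hinvne : ∀ᶠ q in 𝓝 (0 : (Fin m → ℂ) × (Fin n → ℂ)), q ∈ φ.target ∧ φ.symm q ∈ S ∧
      fderiv ℂ Ψ (φ.symm q) ∈ range
        ((↑) : (((Fin m → ℂ) × (Fin n → ℂ)) ≃L[ℂ] ((Fin m → ℂ) × (Fin n → ℂ))) →
          ((Fin m → ℂ) × (Fin n → ℂ)) →L[ℂ] ((Fin m → ℂ) × (Fin n → ℂ))) := by
    have hc : ContinuousAt φ.symm 0 := φ.symm.continuousAt htgt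
    refine (φ.open_target.eventually_mem htgt).and ((hc.eventually_mem (s := S)
      (by rw [hsymm0]; exact hSo.mem_nhds h0S)).and ?_)
    refine ContinuousAt.preimage_mem_nhds (f := fun q => fderiv ℂ Ψ (φ.symm q)) ?_ ?_
    · exact ContinuousAt.comp (x := 0) (by rw [hsymm0]; exact continuousAt_fderiv hSo hΨ h0S) hc
    · rw [hsymm0]
      exact ContinuousLinearEquiv.isOpen.mem_nhds ⟨Le, ContinuousLinearMap.ext fun q => rfl⟩
  obtain ⟨τ, hτ, hτsub⟩ := Metric.mem_nhds_iff.1 hinvne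
  have hsymmd : DifferentiableOn ℂ φ.symm (ball 0 τ) := fun q hq => by
    obtain ⟨hqt, hqS, L', hL'⟩ := hτsub hq
    refine (φ.hasFDerivAt_symm (f' := L') hqt ?_).differentiableAt.differentiableWithinAt
    rw [hL']
    exact (hΨ.differentiableAt (hSo.mem_nhds hqS)).hasFDerivAt
  obtain ⟨σ, hσ, hσsub⟩ := Metric.mem_nhds_iff.1 (φ.open_source.mem_nhds hsrc)
  refine ⟨fun w => (φ.symm (w, 0)).2, fun i => ?_, by
    change (φ.symm 0).2 = 0
    rw [hsymm0]; rfl, min σ τ, lt_min hσ hτ, fun w z hw hz heq => ?_⟩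
  · have hm : MapsTo (fun w : Fin m → ℂ => (w, (0 : Fin n → ℂ))) (ball 0 τ) (ball 0 τ) := ?_
    · exact ⟨τ, hτ, differentiableOn_pi.1 (differentiable_snd.comp_differentiableOn
        (hsymmd.comp (f := fun w : Fin m → ℂ => (w, (0 : Fin n → ℂ))) (by fun_prop) hm)) i⟩
    intro w hw
    rw [mem_ball_zero_iff] at hw ⊢
    simpa [Prod.norm_def] using hw
  · have hmem : (w, z) ∈ φ.source := hσsub (by
      rw [mem_ball_zero_iff, Prod.norm_def]
      exact max_lt (hw.trans_le (min_le_left _ _)) (hz.trans_le (min_le_left _ _)))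
    have hΨwz : φ (w, z) = (w, 0) := Prod.ext rfl (funext fun i => sub_eq_zero.2 (heq i))
    have := φ.left_inv hmem
    rw [hΨwz] at this
    change z = (φ.symm (w, 0)).2
    rw [this]

end AnStalkH3
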