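import Groth.Agent.AnStalkH3.FlatGlobal
import Groth.Agent.AnStalkH3.Inverse
import Groth.Agent.FlatLocal.StalkCrit

/-!
# Etale morphisms are local isomorphisms of analytic spaces
-/

open AlgebraicGeometry CategoryTheory TopologicalSpace Topology IsLocalRing Filter

noncomputable section

set_option backward.isDefEq.respectTransparency.types false

namespace AnStalkH3

open An

variable {X Y : Scheme.{0}} [X.Over SC] [Y.Over SC] [LocallyOfFiniteType (X ↘ SC)]
  [LocallyOfFiniteType (Y ↘ SC)] (f : X ⟶ Y) [f.IsOver SC]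

theorem anStalkMap_germAt (x : Pts X) {U : Opens (top Y)} (hU : Pts.map f x ∈ U) (g : holSub U) :
    anStalkMap f x (germAt U hU g) =
      germAt ((Opens.map (topMap f)).obj U) hU ⟨fun y => g.1 ⟨Pts.map f y.1, y.2⟩, holPred_comp f U g.1 g.2⟩ :=
  congrArg (fun m => (ConcreteCategory.hom m) g) (PresheafedSpace.stalkMap_germ (anMap f) U x hU)

theorem surjective_anStalkMap (x : Pts X)
    (hunr : (maximalIdeal (AnStalk (Pts.map f x))).map (anStalkMap f x) = maximalIdeal (AnStalk x)) :
    Function.Surjective (anStalkMap f x) := by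
  obtain ⟨D⟩ := exists_chart x
  obtain ⟨D'⟩ := exists_chart (Pts.map f x)
  have hgen : maximalIdeal (AnStalk x) =
      Ideal.span (Set.range fun l => anStalkMap f x (D'.π (polyGerm D'.n (MvPolynomial.X l)))) := by
    rw [← hunr, maximalIdeal_anStalk D', maximalIdeal_eq_coords, Ideal.map_span, Ideal.map_span,
      ← Set.range_comp, ← Set.range_comp]
    rfl
  have hmem : ∀ i, D.π (polyGerm D.n (MvPolynomial.X i)) ∈
      Ideal.span (Set.range fun l => anStalkMap f x (D'.π (polyGerm D'.n (MvPolynomial.X l)))) := fun i => by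
    rw [← hgen, maximalIdeal_anStalk D]
    refine Ideal.mem_map_of_mem _ ?_
    rw [maximalIdeal_eq_coords]
    exact Ideal.subset_span ⟨i, rfl⟩
  simp only [Ideal.mem_span_range_iff_exists_fun] at hmem
  choose c hc using hmem
  choose u hu using fun i l => D.π_surjective (c i l)
  choose v hv using fun l => D.π_surjective (anStalkMap f x (D'.π (polyGerm D'.n (MvPolynomial.X l))))
  choose uf huf huu using fun i l => exists_rep (u i l)
  choose vf hvf hvv using fun l => exists_rep (v l)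
  obtain ⟨H, hH, hH0, ε, hε, hsol⟩ := exists_solution uf huf
  -- the coordinate identities near `x`
  have hv' : ∀ l, ∃ N ∈ 𝓝 x, ∀ y ∈ N, ∀ (hy : y.pt ∈ D.W) (hy' : (Pts.map f y).pt ∈ D'.W),
      vf l (D.co y hy) = D'.co (Pts.map f y) hy' l := by
    intro l
    obtain ⟨hp, ep⟩ := polyGerm_eq D'.n (MvPolynomial.X l)
    have h := hv l
    obtain ⟨r, hr, hdv⟩ := hvf l
    obtain ⟨r', hr', hdp⟩ := hp
    rw [hvv, ep, D'.π_mk hr' hdp, anStalkMap_germAt, D.π_mk hr hdv] at h
    obtain ⟨N, hN, hN'⟩ := eventually_of_germAt_eq h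
    refine ⟨N ∩ SetLike.coe (D.U r) ∩ Pts.map f ⁻¹' SetLike.coe (D'.U r'),
      Filter.inter_mem (Filter.inter_mem hN ((D.U r).2.mem_nhds (D.mem_U hr)))
        (((D'.U r').2.preimage (Pts.continuous_map f)).mem_nhds (D'.mem_U hr')), fun y hy hyW hyW' => ?_⟩
    exact (hN' y hy.1.2 hy.2 hy.1.1).trans (MvPolynomial.eval_X _)
  choose N hN hvN using hv'
  have hco : ∀ i, ∃ M ∈ 𝓝 x, ∀ y ∈ M, ∀ hy : y.pt ∈ D.W,
      D.co y hy i = ∑ l, uf i l (D.co y hy) * vf l (D.co y hy) := by
    intro i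
    obtain ⟨hp, ep⟩ := polyGerm_eq D.n (MvPolynomial.X i)
    let Φ : O D.Coord := polyGerm D.n (MvPolynomial.X i) - ∑ l, u i l * v l
    have hΦ : D.π Φ = 0 := by
      simp only [Φ, map_sub, map_sum, map_mul, hu, hv, sub_eq_zero]
      exact (hc i).symm
    have hΦe : ∃ h, Φ = AnStalkH3.mk (fun z => z i - ∑ l, uf i l z * vf l z) h := by
      have hs : ∀ t : Finset (Fin D'.n), ∃ h, (∑ l ∈ t, u i l * v l) =
          AnStalkH3.mk (fun z => ∑ l ∈ t, uf i l z * vf l z) h := by
        intro t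
        induction t using Finset.induction_on with
        | empty => exact ⟨by simpa using holAt_of_differentiable (differentiable_const (0 : ℂ)), by
            simp only [Finset.sum_empty]; rfl⟩
        | insert a t ha ih =>
          obtain ⟨h, e⟩ := ih
          refine ⟨by simp only [Finset.sum_insert ha]; exact ((huf i a).mul (hvf a)).add h, ?_⟩
          rw [Finset.sum_insert ha, e, huu, hvv, mk_mul, mk_add]
          exact mk_eq_mk.2 (Eventually.of_forall fun z => by simp [Finset.sum_insert ha])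
      obtain ⟨h, e⟩ := hs Finset.univ
      refine ⟨(show (fun z : D.Coord => z i - ∑ l, uf i l z * vf l z) =
        (fun z => z i) + -(fun z => ∑ l, uf i l z * vf l z) from funext fun z => sub_eq_add_neg _ _) ▸
          (holAt_of_differentiable (differentiable_apply i)).add h.neg, ?_⟩
      simp only [Φ, e, ep]
      refine Subtype.ext ?_
      change ((Germ.ofFun _ : (𝓝 (0 : D.Coord)).Germ ℂ) - Germ.ofFun _) = Germ.ofFun _
      exact Germ.coe_eq.2 (Eventually.of_forall fun z => by simp)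
    obtain ⟨h, e⟩ := hΦe
    rw [e, D.π_eq_zero_iff] at hΦ
    obtain ⟨M, hM, hMz⟩ := hΦ
    exact ⟨M, hM, fun y hy hyW => sub_eq_zero.1 (hMz y hy hyW)⟩
  choose M hM hcoM using hco
  -- near `x` the coordinates are `H` of the coordinates of the image
  let Wx : Set (Pts X) := (⋂ i, M i) ∩ (⋂ l, N l) ∩ SetLike.coe (D.U ε) ∩
    Pts.map f ⁻¹' SetLike.coe (D'.U ε)
  have hWx : Wx ∈ 𝓝 x :=
    Filter.inter_mem (Filter.inter_mem (Filter.inter_mem (iInter_mem.2 hM) (iInter_mem.2 hN))
      ((D.U ε).2.mem_nhds (D.mem_U hε)))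
      (((D'.U ε).2.preimage (Pts.continuous_map f)).mem_nhds (D'.mem_U hε))
  have hkey : ∀ y ∈ Wx, ∀ (hy : y.pt ∈ D.W) (hy' : (Pts.map f y).pt ∈ D'.W),
      D.co y hy = H (D'.co (Pts.map f y) hy') := by
    rintro y ⟨⟨⟨hyM, hyN⟩, hyU⟩, hyU'⟩ hy hy'
    obtain ⟨_, h1⟩ := hyU
    obtain ⟨_, h2⟩ := hyU'
    refine hsol _ _ h2 h1 fun i => (hcoM i y (Set.mem_iInter.1 hyM i) hy).trans
      (Finset.sum_congr rfl fun l _ => ?_)
    rw [hvN l y (Set.mem_iInter.1 hyN l) hy hy']
  intro σ
  obtain ⟨a, rfl⟩ := D.π_surjective σ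
  obtain ⟨h, ⟨r, hr, hd⟩, rfl⟩ := exists_rep a
  choose rH hrH hdH using hH
  obtain ⟨R, hR, hdR⟩ : ∃ R > (0 : ℝ), DifferentiableOn ℂ H (Metric.ball 0 R) := by
    rcases isEmpty_or_nonempty (Fin D.n) with he | hne
    · exact ⟨1, one_pos, differentiableOn_pi.2 fun i => he.elim i⟩
    · exact ⟨Finset.univ.inf' Finset.univ_nonempty rH,
        (Finset.lt_inf'_iff _).2 fun i _ => hrH i, differentiableOn_pi.2 fun i => (hdH i).mono
          (Metric.ball_subset_ball (Finset.inf'_le _ (Finset.mem_univ i)))⟩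
  have hhH : HolAt (h ∘ H) :=
    HolAt.comp ⟨r, hr, hd⟩ (Metric.ball_mem_nhds _ hR) hdR hH0
  obtain ⟨r'', hr'', hd''⟩ := hhH
  refine ⟨D'.π (AnStalkH3.mk (h ∘ H) ⟨r'', hr'', hd''⟩), ?_⟩
  rw [D'.π_mk hr'' hd'', anStalkMap_germAt, D.π_mk hr hd]
  refine germAt_ext _ _ hWx fun y hy hy' hyW => ?_
  change (h ∘ H) _ = h _
  rw [hkey y hyW hy'.1 hy.1]
  rfl

variable [IsReduced X] [IsReduced Y]

theorem etale_iff : Etale f ↔ ∀ x : Pts X, Function.Bijective (anStalkMap f x) := by
  haveI : LocallyOfFiniteType f := locallyOfFiniteType f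
  haveI : IsLocallyNoetherian Y := LocallyOfFiniteType.isLocallyNoetherian (Y ↘ SC)
  haveI : LocallyOfFinitePresentation f := inferInstance
  constructor
  · intro he x
    haveI := he
    refine ⟨?_, surjective_anStalkMap f x ((formallyUnramified_iff f).1 inferInstance x)⟩
    haveI := isLocalHom_anStalkMap f x
    letI := (anStalkMap f x).toAlgebra
    haveI : IsLocalHom (algebraMap (AnStalk (Pts.map f x)) (AnStalk x)) := isLocalHom_anStalkMap f x
    haveI : Module.Flat (AnStalk (Pts.map f x)) (AnStalk x) := (flat_iff f).1 inferInstance x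
    haveI : Module.FaithfullyFlat (AnStalk (Pts.map f x)) (AnStalk x) :=
      Module.FaithfullyFlat.of_flat_of_isLocalHom
    exact FaithfulSMul.algebraMap_injective (AnStalk (Pts.map f x)) (AnStalk x)
  · intro h
    have hfl : Flat f := (flat_iff f).2 fun x => RingHom.Flat.of_bijective (h x)
    have hu : FormallyUnramified f := (formallyUnramified_iff f).2 fun x =>
      IsLocalRing.map_maximalIdeal_of_surjective _ (h x).2
    rw [Groth.Agent.FlatLocal.etale_iff_stalkMap]
    exact fun z => ⟨Flat.stalkMap f z, FormallyUnramified.stalkMap f z⟩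

end AnStalkH3
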