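import Groth.Agent.AnStalkH3.Flat
import Groth.Agent.CAlgH.GRingCompletion
import Groth.Agent.CAlgH.GRingFiniteType
import Groth.Agent.CAlgH.Approximation
import Groth.Agent.CAlgH.ExcellentNormal
import Groth.Agent.CAlgH.RegularDescent
import Groth.Agent.CAlgH3.RegularCore
import Groth.Agent.CommAlg6.GeomFib

/-!
# Regular fibres of the comparison map and the local properties it preserves
-/

open AlgebraicGeometry CategoryTheory TopologicalSpace Topology IsLocalRing

noncomputable section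

set_option backward.isDefEq.respectTransparency.types false

namespace AnStalkH3

open An

variable {X : Scheme.{0}} [X.Over SC] [LocallyOfFiniteType (X ↘ SC)]

theorem isGRing_stalk (x : Pts X) : CAlg.IsGRing (X.presheaf.stalk x.pt) := by
  obtain ⟨D⟩ := exists_chart x
  letI : Algebra ℂ Γ(X, D.W) := (strW D.W).toAlgebra
  haveI : Algebra.FiniteType ℂ Γ(X, D.W) :=
    Algebra.FiniteType.of_surjective (MvPolynomial.aeval D.s) fun a => by
      obtain ⟨p, rfl⟩ := D.surj a; exact ⟨p, rfl⟩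
  letI alg : Algebra Γ(X, D.W) (X.presheaf.stalk x.pt) :=
    (X.presheaf.germ D.W x.pt D.hx).hom.toAlgebra
  haveI : IsLocalization.AtPrime (X.presheaf.stalk x.pt) (D.hW.primeIdealOf ⟨x.pt, D.hx⟩).asIdeal :=
    D.hW.isLocalization_stalk ⟨x.pt, D.hx⟩
  exact Groth.Agent.CAlgH.isGRing_localization
    (D.hW.primeIdealOf ⟨x.pt, D.hx⟩).asIdeal.primeCompl (X.presheaf.stalk x.pt)
    (Groth.Agent.CAlgH.isGRing_of_finiteType ℂ (Groth.Agent.CAlgH.Approximation.isGRing_field ℂ) Γ(X, D.W))

variable [IsReduced X]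

/-- `O_{X,x} → O_{X^an,x}` is a regular homomorphism. -/
theorem isRegularHom_φ (x : Pts X) :
    @CAlg.IsRegularHom (X.presheaf.stalk x.pt) _ (AnStalk x) _ (φ x).toAlgebra := by
  letI := (φ x).toAlgebra
  haveI : IsLocalHom (algebraMap (X.presheaf.stalk x.pt) (AnStalk x)) := isLocalHom_φ (x := x)
  haveI : Module.Flat (X.presheaf.stalk x.pt) (AnStalk x) := flat_φ x
  refine Groth.Agent.CAlgH.isRegularHom_of_same_completion _ _ (map_maximalIdeal (x := x)) (fun y => ?_)
    (Groth.Agent.CAlgH.isRegularHom_adicCompletion_of_isGRing _ (isGRing_stalk x) _)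
  obtain ⟨a, ha⟩ := exists_sub_mem_max x 1 y
  exact ⟨a, by rwa [pow_one] at ha⟩

/-- `O_{X^an,x}` is faithfully flat over `O_{X,x}`, with field closed fibre. -/
theorem facts (x : Pts X) :
    letI := (φ x).toAlgebra
    IsLocalHom (algebraMap (X.presheaf.stalk x.pt) (AnStalk x)) ∧
    Module.FaithfullyFlat (X.presheaf.stalk x.pt) (AnStalk x) ∧
    (maximalIdeal (X.presheaf.stalk x.pt)).map (algebraMap (X.presheaf.stalk x.pt) (AnStalk x)) =
      maximalIdeal (AnStalk x) := by
  letI := (φ x).toAlgebra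
  haveI h : IsLocalHom (algebraMap (X.presheaf.stalk x.pt) (AnStalk x)) := isLocalHom_φ (x := x)
  haveI : Module.Flat (X.presheaf.stalk x.pt) (AnStalk x) := flat_φ x
  exact ⟨h, Module.FaithfullyFlat.of_flat_of_isLocalHom, map_maximalIdeal (x := x)⟩

theorem ringKrullDim_eq (x : Pts X) :
    ringKrullDim (X.presheaf.stalk x.pt) = ringKrullDim (AnStalk x) := by
  letI := (φ x).toAlgebra
  obtain ⟨_, _, hmap⟩ := facts x
  rw [Groth.Agent.CommAlg6.ringKrullDim_eq_add_fibre (A := X.presheaf.stalk x.pt) (B := AnStalk x)]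
  have : ringKrullDim (AnStalk x ⧸ (maximalIdeal (X.presheaf.stalk x.pt)).map
      (algebraMap (X.presheaf.stalk x.pt) (AnStalk x))) = 0 :=
    haveI : ((maximalIdeal (X.presheaf.stalk x.pt)).map
        (algebraMap (X.presheaf.stalk x.pt) (AnStalk x))).IsMaximal := by
      rw [hmap]; exact maximalIdeal.isMaximal _
    ringKrullDim_eq_zero_of_isField (Ideal.Quotient.maximal_ideal_iff_isField_quotient _ |>.1 this)
  rw [this, add_zero]

theorem isRegularLocalRing_iff (x : Pts X) :
    IsRegularLocalRing (X.presheaf.stalk x.pt) ↔ IsRegularLocalRing (AnStalk x) := by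
  letI := (φ x).toAlgebra
  obtain ⟨_, _, hmap⟩ := facts x
  constructor
  · intro h
    haveI := h
    refine Groth.Agent.CommAlg6.isRegularLocalRing_of_fibre (A := X.presheaf.stalk x.pt) ?_
    haveI : ((maximalIdeal (X.presheaf.stalk x.pt)).map
        (algebraMap (X.presheaf.stalk x.pt) (AnStalk x))).IsMaximal := by
      rw [hmap]; exact maximalIdeal.isMaximal _
    letI := Ideal.Quotient.field ((maximalIdeal (X.presheaf.stalk x.pt)).map
        (algebraMap (X.presheaf.stalk x.pt) (AnStalk x)))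
    infer_instance
  · intro h
    haveI := h
    exact Groth.Agent.CAlgH3.isRegularLocalRing_of_flat (AnStalk x)

theorem hasRk_iff (x : Pts X) (n : ℕ) :
    LocCoh.HasRk n (X.presheaf.stalk x.pt) ↔ LocCoh.HasRk n (AnStalk x) := by
  letI := (φ x).toAlgebra
  obtain ⟨_, _, -⟩ := facts x
  refine ⟨fun h => ?_, fun h => (Groth.Agent.CAlgH.hasRk_of_faithfullyFlat n _ _ h).2⟩
  refine Groth.Agent.CommAlg6.hasRk_of_base_and_fibres n h
    (Groth.Agent.CommAlg6.fib_regular_of_hasRk_fiber n fun p _ => ?_)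
  haveI := ((isRegularHom_φ x).2 p).1
  haveI := Groth.Agent.CAlgH.isRegularRing_of_isGeometricallyRegular ((isRegularHom_φ x).2 p).2
  exact Groth.Agent.CommAlg6.isRegularRing_iff_forall_hasRk.1 inferInstance n

theorem hasSk_iff (x : Pts X) (n : ℕ) :
    LocCoh.HasSk n (X.presheaf.stalk x.pt) (X.presheaf.stalk x.pt) ↔
      LocCoh.HasSk n (AnStalk x) (AnStalk x) := by
  letI := (φ x).toAlgebra
  obtain ⟨_, _, -⟩ := facts x
  refine ⟨fun h => ?_, fun h => (Groth.Agent.CAlgH.hasSk_of_faithfullyFlat n _ _ h).2⟩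
  refine Groth.Agent.CommAlg6.hasSk_of_base_and_fibres n h
    ((Groth.Agent.CommAlg6.forall_hasSk_fiber_iff n).1 fun p _ => ?_)
  haveI := ((isRegularHom_φ x).2 p).1
  haveI := Groth.Agent.CAlgH.isRegularRing_of_isGeometricallyRegular ((isRegularHom_φ x).2 p).2
  refine Groth.Agent.CAlgH3.hasSk_self_iff n |>.2 fun q _ => ?_
  haveI : IsRegularLocalRing (Localization.AtPrime q) :=
    isRegularRing_iff.1 inferInstance q
  have hCM := Groth.Agent.CAlgH3.isCohenMacaulayLocalRing_of_regular (Localization.AtPrime q)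
  rw [Groth.Agent.CAlgH3.isCohenMacaulayLocalRing_iff_depth] at hCM
  exact (min_le_right _ _).trans hCM.le

theorem isCM_iff (x : Pts X) :
    LocCoh.IsCohenMacaulayLocalRing (X.presheaf.stalk x.pt) ↔
      LocCoh.IsCohenMacaulayLocalRing (AnStalk x) := by
  letI := (φ x).toAlgebra
  obtain ⟨_, _, hmap⟩ := facts x
  haveI hmax : ((maximalIdeal (X.presheaf.stalk x.pt)).map
      (algebraMap (X.presheaf.stalk x.pt) (AnStalk x))).IsMaximal := by
    rw [hmap]; exact maximalIdeal.isMaximal _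
  letI := Ideal.Quotient.field ((maximalIdeal (X.presheaf.stalk x.pt)).map
      (algebraMap (X.presheaf.stalk x.pt) (AnStalk x)))
  rw [Groth.Agent.CAlgH3.isCohenMacaulayLocalRing_iff_depth,
    Groth.Agent.CAlgH3.isCohenMacaulayLocalRing_iff_depth, ← ringKrullDim_eq x,
    Groth.Agent.CommAlg6.depth_eq_add_fibre (A := X.presheaf.stalk x.pt) (B := AnStalk x)]
  have hF := Groth.Agent.CAlgH3.isCohenMacaulayLocalRing_of_regular (AnStalk x ⧸
    (maximalIdeal (X.presheaf.stalk x.pt)).map (algebraMap (X.presheaf.stalk x.pt) (AnStalk x)))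
  rw [Groth.Agent.CAlgH3.isCohenMacaulayLocalRing_iff_depth,
    ringKrullDim_eq_zero_of_isField (Field.toIsField _)] at hF
  rw [WithBot.coe_add, ← hF, add_zero]

theorem normal_iff (x : Pts X) :
    (IsDomain (X.presheaf.stalk x.pt) ∧ IsIntegrallyClosed (X.presheaf.stalk x.pt)) ↔
      (IsDomain (AnStalk x) ∧ IsIntegrallyClosed (AnStalk x)) := by
  constructor
  · rintro ⟨_, _⟩
    obtain ⟨hR, hS⟩ := Groth.Agent.CAlgH3.normal_localization_iff.1
      (Groth.Agent.CAlgH.ExcellentNormal.isNormalRing_of_isIntegrallyClosed (X.presheaf.stalk x.pt))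
    exact Groth.Agent.CAlgH3.normal_of_R1_S2 ((hasRk_iff x 1).1 hR) ((hasSk_iff x 2).1 hS)
  · rintro ⟨_, _⟩
    obtain ⟨hR, hS⟩ := Groth.Agent.CAlgH3.normal_localization_iff.1
      (Groth.Agent.CAlgH.ExcellentNormal.isNormalRing_of_isIntegrallyClosed (AnStalk x))
    exact Groth.Agent.CAlgH3.normal_of_R1_S2 ((hasRk_iff x 1).2 hR) ((hasSk_iff x 2).2 hS)

end AnStalkH3
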