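import Groth.Agent.AnStalkH3.Compare
import Groth.Agent.H10Cons.Infinitesimal

/-!
# The comparison map of stalks is flat
-/

open AlgebraicGeometry CategoryTheory TopologicalSpace Topology IsLocalRing

noncomputable section

set_option backward.isDefEq.respectTransparency.types false

namespace AnStalkH3

open An

variable {X : Scheme.{0}} [X.Over SC] [LocallyOfFiniteType (X ↘ SC)]

instance isNoetherianRing_stalk (x : Pts X) : IsNoetherianRing (X.presheaf.stalk x.pt) :=
  have : IsLocallyNoetherian X := LocallyOfFiniteType.isLocallyNoetherian (X ↘ SC)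
  inferInstance

theorem exists_sub_mem_max (x : Pts X) (n : ℕ) (b : AnStalk x) :
    ∃ a, b - φ x a ∈ maximalIdeal (AnStalk x) ^ n := by
  obtain ⟨a, ha⟩ := exists_sub_mem (x := x) n b
  refine ⟨a, ?_⟩
  rw [← map_maximalIdeal (x := x), ← neg_sub]
  exact neg_mem ha

theorem mem_pow_iff [IsReduced X] (x : Pts X) (n : ℕ) (a : X.presheaf.stalk x.pt) :
    φ x a ∈ maximalIdeal (AnStalk x) ^ n ↔ a ∈ maximalIdeal (X.presheaf.stalk x.pt) ^ n := by
  rw [← map_maximalIdeal (x := x), ← Ideal.mem_comap, comap_pow]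

theorem flat_φ [IsReduced X] (x : Pts X) : (φ x).Flat := by
  letI := (φ x).toAlgebra
  haveI : IsLocalHom (algebraMap (X.presheaf.stalk x.pt) (AnStalk x)) := isLocalHom_φ (x := x)
  exact Groth.Agent.H10Cons.flat_of_levels (exists_sub_mem_max x)
    fun n r hr => (mem_pow_iff x n r).1 hr

end AnStalkH3
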