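import Groth.Agent.FlatCrit.Tor
import Groth.Agent.AlgSpLib.EtaleAscend
import Mathlib.RingTheory.LocalRing.RingHom.Basic

/-!
# Flatness across a square whose base change is trivial modulo powers of the maximal ideal
-/

open TensorProduct IsLocalRing Function

namespace AnStalkH3

variable {A A' M : Type} [CommRing A] [CommRing A'] [Algebra A A'] [AddCommGroup M] [Module A' M]
  [Module A M] [IsScalarTower A A' M]

theorem quotFlat_of_flat_below [Module.Flat A M] (I : Ideal A)
    (hsurj : ∀ a' : A', ∃ a : A, a' - algebraMap A A' a ∈ I.map (algebraMap A A')) :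
    Groth.Agent.FlatCrit.QuotFlat A' M (I.map (algebraMap A A')) := by
  intro N₁ N₂ _ _ _ _ i hkill hi
  letI := Module.compHom N₁ (algebraMap A A')
  letI := Module.compHom N₂ (algebraMap A A')
  haveI : IsScalarTower A A' N₁ := IsScalarTower.of_algebraMap_smul fun r x => rfl
  haveI : IsScalarTower A A' N₂ := IsScalarTower.of_algebraMap_smul fun r x => rfl
  have hkill₁ : ∀ r ∈ I.map (algebraMap A A'), ∀ x : N₁, r • x = 0 := fun r hr x =>
    hi (by rw [map_smul, map_zero]; exact hkill r hr _)
  have hA : Injective ((i.restrictScalars A).rTensor M) :=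
    Module.Flat.rTensor_preserves_injective_linearMap _ hi
  -- the canonical map from the tensor product over `A` is surjective and injective
  have hswap : ∀ (N : Type) [AddCommGroup N] [Module A' N] [Module A N] [IsScalarTower A A' N],
      (∀ r ∈ I.map (algebraMap A A'), ∀ x : N, r • x = 0) →
      ∀ (a' : A') (x : N) (y : M), (a' • x) ⊗ₜ[A] y = x ⊗ₜ[A] (a' • y) := by
    intro N _ _ _ _ hN a' x y
    obtain ⟨a, ha⟩ := hsurj a'
    have key : ∀ r ∈ I.map (algebraMap A A'), x ⊗ₜ[A] (r • y) = 0 := by
      intro r hr
      induction hr using Submodule.span_induction generalizing y with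
      | mem r hr =>
        obtain ⟨b, hb, rfl⟩ := hr
        rw [algebraMap_smul, TensorProduct.tmul_smul, TensorProduct.smul_tmul',
          ← algebraMap_smul A' b x, hN _ (Ideal.mem_map_of_mem _ hb), TensorProduct.zero_tmul]
      | zero => simp
      | add r s _ _ hr hs => rw [add_smul, TensorProduct.tmul_add, hr, hs, add_zero]
      | smul c r _ hr => rw [smul_eq_mul, mul_comm, mul_smul]; exact hr _
    have h1 : a' • x = a • x := by
      have := hN _ ha x
      rwa [sub_smul, algebraMap_smul, sub_eq_zero] at this
    have h2 : x ⊗ₜ[A] (a' • y) = x ⊗ₜ[A] (a • y) := by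
      have := key _ ha
      rwa [sub_smul, algebraMap_smul, TensorProduct.tmul_sub, sub_eq_zero] at this
    rw [h1, h2, TensorProduct.smul_tmul]
  let back : ∀ (N : Type) [AddCommGroup N] [Module A' N] [Module A N] [IsScalarTower A A' N],
      (∀ r ∈ I.map (algebraMap A A'), ∀ x : N, r • x = 0) → (N ⊗[A'] M →+ N ⊗[A] M) :=
    fun N _ _ _ _ hN => TensorProduct.liftAddHom
      { toFun := fun x =>
          { toFun := fun y => x ⊗ₜ[A] y
            map_zero' := TensorProduct.tmul_zero _ _
            map_add' := fun _ _ => TensorProduct.tmul_add _ _ _ }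
        map_zero' := by ext y; exact TensorProduct.zero_tmul _ _
        map_add' := fun _ _ => by ext y; exact TensorProduct.add_tmul _ _ _ }
      (fun a' x y => (hswap N hN a' x y))
  intro u v huv
  have hinv : ∀ (N : Type) [AddCommGroup N] [Module A' N] [Module A N] [IsScalarTower A A' N]
      (hN : ∀ r ∈ I.map (algebraMap A A'), ∀ x : N, r • x = 0) (z z' : N ⊗[A'] M),
      back N hN z = back N hN z' → z = z' := by
    intro N _ _ _ _ hN
    let fwd : N ⊗[A] M →+ N ⊗[A'] M := TensorProduct.liftAddHom
      { toFun := fun x =>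
          { toFun := fun y => x ⊗ₜ[A'] y
            map_zero' := TensorProduct.tmul_zero _ _
            map_add' := fun _ _ => TensorProduct.tmul_add _ _ _ }
        map_zero' := by ext y; exact TensorProduct.zero_tmul _ _
        map_add' := fun _ _ => by ext y; exact TensorProduct.add_tmul _ _ _ }
      (fun a x y => by
        change (a • x) ⊗ₜ[A'] y = x ⊗ₜ[A'] (a • y)
        rw [← algebraMap_smul A' a x, ← algebraMap_smul A' a y, TensorProduct.smul_tmul])
    have h : ∀ z, fwd (back N hN z) = z := fun z => by
      induction z using TensorProduct.induction_on with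
      | zero => simp
      | tmul x y => rfl
      | add p q hp hq => rw [map_add, map_add, hp, hq]
    intro z z' hz
    rw [← h z, ← h z', hz]
  refine hinv N₁ hkill₁ u v (hA ?_)
  have hcomm : ∀ z : N₁ ⊗[A'] M, (i.restrictScalars A).rTensor M (back N₁ hkill₁ z) =
      back N₂ hkill (i.rTensor M z) := fun z => by
    induction z using TensorProduct.induction_on with
    | zero => simp
    | tmul x y => rfl
    | add p q hp hq => simp only [map_add, hp, hq]
  rw [hcomm, hcomm, huv]

end AnStalkH3

namespace AnStalkH3

theorem flat_of_square {A B A' B' : Type} [CommRing A] [CommRing B] [CommRing A'] [CommRing B']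
    [IsLocalRing A] [IsLocalRing A'] [IsLocalRing B'] [IsNoetherianRing A'] [IsNoetherianRing B']
    (f : A →+* B) (φA : A →+* A') (φB : B →+* B') (f' : A' →+* B')
    (hsq : φB.comp f = f'.comp φA) (hf : f.Flat) (hφB : φB.Flat) [IsLocalHom f']
    (hm : (maximalIdeal A).map φA = maximalIdeal A')
    (hsurj : ∀ (k : ℕ) (a' : A'), ∃ a, a' - φA a ∈ maximalIdeal A' ^ k) : f'.Flat := by
  have hflat : (f'.comp φA).Flat := hsq ▸ hf.comp hφB
  algebraize [φA, f', f'.comp φA]
  haveI : IsLocalHom (algebraMap A' B') := ‹IsLocalHom f'›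
  have hloc : (maximalIdeal A').map f' ≤ maximalIdeal B' :=
    ((IsLocalRing.local_hom_TFAE f').out 0 2).1 ‹IsLocalHom f'›
  refine Groth.Agent.FlatCrit.flat_of_quotFlat_pow (S := B') (maximalIdeal A')
    (hloc.trans (maximalIdeal_le_jacobson ⊥)) fun n => ?_
  rw [← hm, ← Ideal.map_pow]
  refine quotFlat_of_flat_below (A := A) (maximalIdeal A ^ n) fun a' => ?_
  rw [Ideal.map_pow, show (algebraMap A A') = φA from rfl, hm]
  exact hsurj n a'

end AnStalkH3
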