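import Groth.Agent.AnStalkH3.Global
import Groth.Agent.AnStalkH3.FlatSquare
import Groth.Agent.AlgSpLib.ModifCover

/-!
# Flatness in terms of analytic stalks
-/

open AlgebraicGeometry CategoryTheory TopologicalSpace Topology IsLocalRing

noncomputable section

set_option backward.isDefEq.respectTransparency.types false

namespace AnStalkH3

open An
open Groth.Agent

variable {X Y : Scheme.{0}} [X.Over SC] [Y.Over SC] [LocallyOfFiniteType (X ↘ SC)]
  [LocallyOfFiniteType (Y ↘ SC)] [IsReduced X] [IsReduced Y] (f : X ⟶ Y) [f.IsOver SC]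

theorem flat_stalkMap_iff (x : Pts X) : (algStalkMap f x).Flat ↔ (anStalkMap f x).Flat := by
  constructor
  · intro h
    haveI := isLocalHom_anStalkMap f x
    exact flat_of_square _ _ _ _ (square f x) h (flat_φ x) (map_maximalIdeal (x := Pts.map f x))
      (exists_sub_mem_max (Pts.map f x))
  · intro h
    have h' : ((φ x).comp (algStalkMap f x)).Flat := square f x ▸ (flat_φ (Pts.map f x)).comp h
    refine AlgSpLib.flat_of_comp _ _ ?_ h'
    letI := (φ x).toAlgebra
    obtain ⟨_, hff, -⟩ := facts x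
    exact hff

theorem flat_of_flat_closed {D T : Scheme.{0}} [JacobsonSpace D] (g : D ⟶ T)
    (h : ∀ m : D, IsClosed ({m} : Set D) → (g.stalkMap m).hom.Flat) : Flat g := by
  refine (Flat.iff_flat_stalkMap g).2 fun z => ?_
  obtain ⟨m, hm, hmc⟩ := nonempty_inter_closedPoints (Set.singleton_nonempty z).closure
    (isClosed_closure (s := ({z} : Set D))).isLocallyClosed
  haveI : Flat (Spec.map (g.stalkMap m)) := HasRingHomProperty.Spec_iff.mpr (h m hmc)
  haveI := Props12.flat_fromSpecStalk (g m)
  haveI := Props12.flat_fromSpecStalk m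
  haveI : Flat (D.fromSpecStalk m ≫ g) := by rw [← Scheme.SpecMap_stalkMap_fromSpecStalk]; infer_instance
  obtain ⟨q, rfl⟩ : z ∈ Set.range (D.fromSpecStalk m) := by
    rw [Scheme.range_fromSpecStalk]
    exact specializes_iff_mem_closure.2 hm
  exact (Desc19b.flat_stalkMap_comp_iff _ g q (Flat.stalkMap _ q)).mp (Flat.stalkMap _ q)

theorem flat_iff : Flat f ↔ ∀ x : Pts X, (anStalkMap f x).Flat := by
  refine ⟨fun h x => (flat_stalkMap_iff f x).1 (Flat.stalkMap f x.pt), fun h => ?_⟩
  haveI : JacobsonSpace X := LocallyOfFiniteType.jacobsonSpace (X ↘ SC)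
  refine flat_of_flat_closed f fun m hm => ?_
  obtain ⟨x, rfl⟩ := Groth.Agent.AnLib.exists_pt_eq hm
  exact (flat_stalkMap_iff f x).2 (h x)

end AnStalkH3
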