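import Groth.Agent.AnStalkH3.Param
import Mathlib.Order.Filter.Germ.Basic
import Mathlib.Analysis.Analytic.IsolatedZeros
import Mathlib.RingTheory.Noetherian.Basic
import Mathlib.RingTheory.LocalRing.Basic
import Mathlib.RingTheory.LocalRing.MaximalIdeal.Basic
import Mathlib.Topology.Germ

/-!
# Rings of germs of holomorphic functions at the origin, and the division theorem
-/

noncomputable section

open Metric Set Filter Topology
open scoped Topology

namespace AnStalkH3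

variable {E F G : Type} [NormedAddCommGroup E] [NormedSpace ℂ E]
  [NormedAddCommGroup F] [NormedSpace ℂ F] [NormedAddCommGroup G] [NormedSpace ℂ G]

/-- `f` is holomorphic near the origin. -/
def HolAt (f : E → ℂ) : Prop := ∃ r > (0 : ℝ), DifferentiableOn ℂ f (ball 0 r)

theorem holAt_of_nhds {f : E → ℂ} {U : Set E} (hU : U ∈ 𝓝 (0 : E)) (hf : DifferentiableOn ℂ f U) :
    HolAt f := by
  obtain ⟨r, hr, hsub⟩ := Metric.mem_nhds_iff.1 hU
  exact ⟨r, hr, hf.mono hsub⟩

theorem HolAt.continuousAt {f : E → ℂ} (hf : HolAt f) : ContinuousAt f 0 := by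
  obtain ⟨r, hr, h⟩ := hf
  exact h.continuousOn.continuousAt (ball_mem_nhds _ hr)

theorem HolAt.add {f g : E → ℂ} (hf : HolAt f) (hg : HolAt g) : HolAt (f + g) := by
  obtain ⟨r, hr, h⟩ := hf
  obtain ⟨s, hs, h'⟩ := hg
  exact ⟨min r s, lt_min hr hs, (h.mono (ball_subset_ball (min_le_left _ _))).add
    (h'.mono (ball_subset_ball (min_le_right _ _)))⟩

theorem HolAt.mul {f g : E → ℂ} (hf : HolAt f) (hg : HolAt g) : HolAt (f * g) := by
  obtain ⟨r, hr, h⟩ := hf
  obtain ⟨s, hs, h'⟩ := hg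
  exact ⟨min r s, lt_min hr hs, (h.mono (ball_subset_ball (min_le_left _ _))).mul
    (h'.mono (ball_subset_ball (min_le_right _ _)))⟩

theorem holAt_of_differentiable {f : E → ℂ} (hf : Differentiable ℂ f) : HolAt f :=
  ⟨1, one_pos, hf.differentiableOn⟩

theorem HolAt.neg {f : E → ℂ} (hf : HolAt f) : HolAt (-f) := by
  obtain ⟨r, hr, h⟩ := hf
  exact ⟨r, hr, h.neg⟩

theorem HolAt.inv {f : E → ℂ} (hf : HolAt f) (h0 : f 0 ≠ 0) : HolAt (fun x => (f x)⁻¹) := by
  obtain ⟨r, hr, h⟩ := hf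
  obtain ⟨s, hs, hsub⟩ := Metric.mem_nhds_iff.1
    ((h.continuousOn.continuousAt (ball_mem_nhds _ hr)).eventually_ne h0)
  exact ⟨min r s, lt_min hr hs, (h.mono (ball_subset_ball (min_le_left _ _))).inv
    fun x hx => hsub (ball_subset_ball (min_le_right _ _) hx)⟩

theorem HolAt.comp {f : F → ℂ} {φ : E → F} (hf : HolAt f) {U : Set E} (hU : U ∈ 𝓝 (0 : E))
    (hφ : DifferentiableOn ℂ φ U) (h0 : φ 0 = 0) : HolAt (f ∘ φ) := by
  obtain ⟨r, hr, h⟩ := hf
  have hc : ContinuousAt φ 0 := hφ.continuousOn.continuousAt hU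
  have : φ ⁻¹' ball 0 r ∈ 𝓝 (0 : E) := hc.preimage_mem_nhds (by rw [h0]; exact ball_mem_nhds _ hr)
  exact holAt_of_nhds (Filter.inter_mem hU this)
    (h.comp (hφ.mono inter_subset_left) fun x hx => hx.2)

variable (E) in
/-- The ring of germs of holomorphic functions at the origin. -/
def O : Subring ((𝓝 (0 : E)).Germ ℂ) where
  carrier := {φ | ∃ f : E → ℂ, HolAt f ∧ φ = ↑f}
  mul_mem' := by
    rintro _ _ ⟨f, hf, rfl⟩ ⟨g, hg, rfl⟩
    exact ⟨f * g, hf.mul hg, rfl⟩
  add_mem' := by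
    rintro _ _ ⟨f, hf, rfl⟩ ⟨g, hg, rfl⟩
    exact ⟨f + g, hf.add hg, rfl⟩
  one_mem' := ⟨1, holAt_of_differentiable (differentiable_const _), rfl⟩
  zero_mem' := ⟨0, holAt_of_differentiable (differentiable_const _), rfl⟩
  neg_mem' := by
    rintro _ ⟨f, hf, rfl⟩
    exact ⟨-f, hf.neg, rfl⟩

/-- The germ of a function holomorphic near the origin. -/
def mk (f : E → ℂ) (hf : HolAt f) : O E := ⟨↑f, f, hf, rfl⟩

theorem exists_rep (φ : O E) : ∃ (f : E → ℂ) (hf : HolAt f), φ = mk f hf := by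
  obtain ⟨f, hf, h⟩ := φ.2
  exact ⟨f, hf, Subtype.ext h⟩

theorem mk_eq_mk {f g : E → ℂ} {hf : HolAt f} {hg : HolAt g} :
    mk f hf = mk g hg ↔ f =ᶠ[𝓝 0] g :=
  Subtype.ext_iff.trans Germ.coe_eq

theorem mk_mul {f g : E → ℂ} (hf : HolAt f) (hg : HolAt g) :
    mk f hf * mk g hg = mk (f * g) (hf.mul hg) := rfl

theorem mk_add {f g : E → ℂ} (hf : HolAt f) (hg : HolAt g) :
    mk f hf + mk g hg = mk (f + g) (hf.add hg) := rfl

theorem mk_eq_zero {f : E → ℂ} {hf : HolAt f} : mk f hf = 0 ↔ ∀ᶠ x in 𝓝 0, f x = 0 := by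
  rw [show (0 : O E) = mk 0 (holAt_of_differentiable (differentiable_const _)) from rfl, mk_eq_mk]
  rfl

variable (E) in
/-- Evaluation at the origin. -/
def eval0 : O E →+* ℂ where
  toFun φ := φ.1.value
  map_one' := rfl
  map_zero' := rfl
  map_mul' a b := by
    obtain ⟨f, hf, rfl⟩ := exists_rep a
    obtain ⟨g, hg, rfl⟩ := exists_rep b
    rfl
  map_add' a b := by
    obtain ⟨f, hf, rfl⟩ := exists_rep a
    obtain ⟨g, hg, rfl⟩ := exists_rep b
    rfl

@[simp] theorem eval0_mk (f : E → ℂ) (hf : HolAt f) : eval0 E (mk f hf) = f 0 := rfl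

theorem isUnit_iff (φ : O E) : IsUnit φ ↔ eval0 E φ ≠ 0 := by
  refine ⟨fun h => (h.map (eval0 E)).ne_zero, fun h => ?_⟩
  obtain ⟨f, hf, rfl⟩ := exists_rep φ
  refine IsUnit.of_mul_eq_one (mk _ (hf.inv h)) ?_
  rw [mk_mul, show (1 : O E) = mk 1 (holAt_of_differentiable (differentiable_const _)) from rfl,
    mk_eq_mk]
  filter_upwards [hf.continuousAt.eventually_ne h] with x hx
  simp [hx]

instance : Nontrivial (O E) := (eval0 E).domain_nontrivial

instance : IsLocalRing (O E) := by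
  refine IsLocalRing.of_nonunits_add fun a b ha hb => ?_
  simp only [mem_nonunits_iff, isUnit_iff, not_not] at ha hb ⊢
  rw [map_add, ha, hb, add_zero]

theorem mem_maximalIdeal {φ : O E} : φ ∈ IsLocalRing.maximalIdeal (O E) ↔ eval0 E φ = 0 := by
  rw [IsLocalRing.mem_maximalIdeal, mem_nonunits_iff, isUnit_iff, not_not]

/-- Substitution of a map holomorphic near the origin and fixing it. -/
def comap (φ : E → F) {U : Set E} (hU : U ∈ 𝓝 (0 : E)) (hφ : DifferentiableOn ℂ φ U)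
    (h0 : φ 0 = 0) : O F →+* O E where
  toFun a := ⟨a.1.compTendsto φ (h0 ▸ (hφ.continuousOn.continuousAt hU).tendsto), by
    obtain ⟨f, hf, rfl⟩ := exists_rep a
    exact ⟨f ∘ φ, hf.comp hU hφ h0, rfl⟩⟩
  map_one' := rfl
  map_zero' := rfl
  map_mul' a b := by
    obtain ⟨f, hf, rfl⟩ := exists_rep a
    obtain ⟨g, hg, rfl⟩ := exists_rep b
    rfl
  map_add' a b := by
    obtain ⟨f, hf, rfl⟩ := exists_rep a
    obtain ⟨g, hg, rfl⟩ := exists_rep b
    rfl

theorem comap_mk (φ : E → F) {U : Set E} (hU : U ∈ 𝓝 (0 : E)) (hφ : DifferentiableOn ℂ φ U)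
    (h0 : φ 0 = 0) (f : F → ℂ) (hf : HolAt f) :
    comap φ hU hφ h0 (mk f hf) = mk (f ∘ φ) (hf.comp hU hφ h0) := rfl

/-- Substitution of a continuous linear map. -/
def comapL (L : E →L[ℂ] F) : O F →+* O E :=
  comap L univ_mem L.differentiable.differentiableOn L.map_zero

theorem comapL_mk (L : E →L[ℂ] F) (f : F → ℂ) (hf : HolAt f) :
    comapL L (mk f hf) = mk (f ∘ L) (hf.comp univ_mem L.differentiable.differentiableOn L.map_zero) :=
  rfl

/-- Germ rings of isomorphic spaces are isomorphic. -/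
def congrL (e : E ≃L[ℂ] F) : O F ≃+* O E :=
  RingEquiv.ofRingHom (comapL (e : E →L[ℂ] F)) (comapL (e.symm : F →L[ℂ] E))
    (RingHom.ext fun a => by
      obtain ⟨f, hf, rfl⟩ := exists_rep a
      refine Subtype.ext (Germ.coe_eq.2 ?_)
      exact (Eventually.of_forall fun x => congrArg f (e.symm_apply_apply x)))
    (RingHom.ext fun a => by
      obtain ⟨f, hf, rfl⟩ := exists_rep a
      refine Subtype.ext (Germ.coe_eq.2 ?_)
      exact (Eventually.of_forall fun x => congrArg f (e.apply_symm_apply x)))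

/-- The germ of a continuous linear functional. -/
def lin (l : E →L[ℂ] ℂ) : O E := mk l (holAt_of_differentiable l.differentiable)

theorem comapL_lin (L : E →L[ℂ] F) (l : F →L[ℂ] ℂ) : comapL L (lin l) = lin (l.comp L) := rfl

/-- Constants. -/
def constHom : ℂ →+* O E where
  toFun c := mk (fun _ => c) (holAt_of_differentiable (differentiable_const c))
  map_one' := rfl
  map_zero' := rfl
  map_mul' _ _ := rfl
  map_add' _ _ := rfl

/-! ### Slopes in the last variable -/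

/-- The slope in the last variable. -/
def slope (f : E × ℂ → ℂ) : E × ℂ → ℂ := fun p => dslope (fun t => f (p.1, t)) 0 p.2

theorem eq_slope (f : E × ℂ → ℂ) (p : E × ℂ) : f p = f (p.1, 0) + p.2 * slope f p :=
  slope_spec f p

theorem expand (f : E × ℂ → ℂ) (d : ℕ) (p : E × ℂ) :
    f p = ∑ j ∈ Finset.range d, p.2 ^ j * slope^[j] f (p.1, 0) + p.2 ^ d * slope^[d] f p := by
  induction d with
  | zero => simp
  | succ d ih =>
    rw [Finset.sum_range_succ, ih, eq_slope (slope^[d] f) p, Function.iterate_succ_apply']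
    ring

theorem iterate_slope_line (f : E × ℂ → ℂ) (x : E) (j : ℕ) :
    (fun t => slope^[j] f (x, t)) = (Function.swap dslope (0 : ℂ))^[j] (fun t => f (x, t)) := by
  induction j with
  | zero => rfl
  | succ j ih =>
    rw [Function.iterate_succ_apply', Function.iterate_succ_apply', ← ih]
    rfl

variable [FiniteDimensional ℂ E]

theorem iterate_slope_facts {f : E × ℂ → ℂ} {U : Set E} {r M : ℝ} (hU : IsOpen U) (hr : 0 < r)
    (hf : DifferentiableOn ℂ f (U ×ˢ ball (0 : ℂ) r))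
    (hb : ∀ p ∈ U ×ˢ ball (0 : ℂ) r, ‖f p‖ ≤ M) (j : ℕ) :
    DifferentiableOn ℂ (slope^[j] f) (U ×ˢ ball (0 : ℂ) r) ∧
      ∀ p ∈ U ×ˢ ball (0 : ℂ) r, ‖slope^[j] f p‖ ≤ (2 / r) ^ j * M := by
  induction j with
  | zero => exact ⟨hf, fun p hp => by simpa using hb p hp⟩
  | succ j ih =>
    rw [Function.iterate_succ_apply']
    refine ⟨differentiableOn_slope hU ih.1, fun p hp =>
      (norm_slope_le hr ih.1 ih.2 p hp).trans_eq ?_⟩
    rw [pow_succ]; ring

theorem differentiableOn_iterate_slope {f : E × ℂ → ℂ} {U : Set E} {r : ℝ} (hU : IsOpen U)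
    (hf : DifferentiableOn ℂ f (U ×ˢ ball (0 : ℂ) r)) (j : ℕ) :
    DifferentiableOn ℂ (slope^[j] f) (U ×ˢ ball (0 : ℂ) r) := by
  induction j with
  | zero => exact hf
  | succ j ih =>
    rw [Function.iterate_succ_apply']
    exact differentiableOn_slope hU ih

theorem holAt_iterate_slope {f : E × ℂ → ℂ} (hf : HolAt f) (j : ℕ) : HolAt (slope^[j] f) := by
  obtain ⟨r, hr, h⟩ := hf
  rw [show (0 : E × ℂ) = ((0 : E), (0 : ℂ)) from rfl, ← ball_prod_same] at h
  exact holAt_of_nhds (prod_mem_nhds (ball_mem_nhds _ hr) (ball_mem_nhds _ hr))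
    (differentiableOn_iterate_slope isOpen_ball h j)

omit [FiniteDimensional ℂ E] in
theorem holAt_restrict {f : E × ℂ → ℂ} (hf : HolAt f) : HolAt (fun x => f (x, 0)) :=
  hf.comp (φ := fun x => (x, (0 : ℂ))) univ_mem (by fun_prop) rfl

/-- The first projection on germs. -/
def fstHom : O E →+* O (E × ℂ) := comapL (ContinuousLinearMap.fst ℂ E ℂ)

/-- The last coordinate. -/
def lastCoord : O (E × ℂ) := lin (ContinuousLinearMap.snd ℂ E ℂ)

/-- Division by a germ regular of order `d` in the last variable. -/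
theorem division {g : E × ℂ → ℂ} (hg : HolAt g) {d : ℕ}
    (hlow : ∀ j < d, slope^[j] g 0 = 0) (hd : slope^[d] g 0 ≠ 0) (φ : O (E × ℂ)) :
    ∃ (A : ℕ → O E) (q : O (E × ℂ)),
      φ = ∑ j ∈ Finset.range d, fstHom (A j) * lastCoord ^ j + mk g hg * q := by
  obtain ⟨f, hf, rfl⟩ := exists_rep φ
  obtain ⟨rg, hrg, hdg⟩ := hg
  obtain ⟨rf, hrf, hdf⟩ := hf
  set u := slope^[d] g with hu
  set α := ‖u 0‖ with hα
  have hα0 : 0 < α := norm_pos_iff.2 hd
  obtain ⟨ru, hru, hdu⟩ := holAt_iterate_slope (E := E) ⟨rg, hrg, hdg⟩ d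
  have hcu := hdu.continuousOn.continuousAt (ball_mem_nhds (0 : E × ℂ) hru)
  have hev : ∀ᶠ p in 𝓝 (0 : E × ℂ), α / 2 < ‖u p‖ ∧ ‖f p‖ < ‖f 0‖ + 1 :=
    (hcu.norm.eventually_const_lt (half_lt_self hα0)).and
      ((hdf.continuousOn.continuousAt (ball_mem_nhds _ hrf)).norm.eventually_lt_const
        (lt_add_one _))
  obtain ⟨s, hs, hsub⟩ := Metric.mem_nhds_iff.1 hev
  set r := min (min rg rf) (min ru s) with hr
  have hr0 : 0 < r := lt_min (lt_min hrg hrf) (lt_min hru hs)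
  -- the small coefficients
  have hc : ∀ j < d, ContinuousAt (fun x : E => ‖slope^[j] g (x, 0)‖) 0 := fun j _ =>
    (holAt_restrict (holAt_iterate_slope ⟨rg, hrg, hdg⟩ j)).continuousAt.norm
  set δ := α / 4 * (r / 2) ^ d with hδ
  have hδ0 : 0 < δ := by positivity
  have hsmall : ∀ᶠ x in 𝓝 (0 : E), ∑ j ∈ Finset.range d, r ^ j * ‖slope^[j] g (x, 0)‖ < δ := by
    have h : ContinuousAt (fun x : E => ∑ j ∈ Finset.range d, r ^ j * ‖slope^[j] g (x, 0)‖) 0 :=
      tendsto_finsetSum _ fun j hj => (hc j (Finset.mem_range.1 hj)).tendsto.const_mul _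
    refine h.eventually_lt_const ?_
    convert! hδ0 using 1
    refine Finset.sum_eq_zero fun j hj => ?_
    rw [show ((0 : E), (0 : ℂ)) = 0 from rfl, hlow j (Finset.mem_range.1 hj), norm_zero, mul_zero]
  obtain ⟨e, he, hesub⟩ := Metric.mem_nhds_iff.1 hsmall
  set ε := min e r with hεdef
  have hε : 0 < ε := lt_min he hr0
  set D : Set (E × ℂ) := ball (0 : E) ε ×ˢ ball (0 : ℂ) r with hD
  have hDball : D ⊆ ball 0 r := by
    intro p hp
    rw [show (0 : E × ℂ) = ((0 : E), (0 : ℂ)) from rfl, ← ball_prod_same]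
    exact ⟨ball_subset_ball (min_le_right _ _) hp.1, hp.2⟩
  have hDo : IsOpen D := isOpen_ball.prod isOpen_ball
  have hD0 : D ∈ 𝓝 (0 : E × ℂ) := hDo.mem_nhds ⟨mem_ball_self hε, mem_ball_self hr0⟩
  have hsub' : ∀ p ∈ D, α / 2 < ‖u p‖ ∧ ‖f p‖ < ‖f 0‖ + 1 := fun p hp =>
    hsub (ball_subset_ball ((min_le_right _ _).trans (min_le_right _ _)) (hDball hp))
  have hu0 : ∀ p ∈ D, u p ≠ 0 := fun p hp h => by
    have := (hsub' p hp).1
    rw [h, norm_zero] at this
    linarith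
  have hgD : DifferentiableOn ℂ g D := hdg.mono fun p hp =>
    ball_subset_ball ((min_le_left _ _).trans (min_le_left _ _)) (hDball hp)
  have huD : DifferentiableOn ℂ u D := hdu.mono fun p hp =>
    ball_subset_ball ((min_le_right _ _).trans (min_le_left _ _)) (hDball hp)
  set c : ℕ → E → ℂ := fun j x => slope^[j] g (x, 0) with hcdef
  have hcD : ∀ j, DifferentiableOn ℂ (c j) (ball (0 : E) ε) := fun j =>
    (differentiableOn_iterate_slope isOpen_ball hgD j).comp (by fun_prop)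
      fun x hx => ⟨hx, mem_ball_self hr0⟩
  set h : E × ℂ → ℂ := fun p => (∑ j ∈ Finset.range d, p.2 ^ j * c j p.1) * (u p)⁻¹ with hh
  have hgu : ∀ p ∈ D, g p = (p.2 ^ d + h p) * u p := by
    intro p hp
    rw [hh, add_mul, mul_assoc, inv_mul_cancel₀ (hu0 p hp), mul_one, expand g d p, add_comm]
  have hhD : DifferentiableOn ℂ h D := by
    refine DifferentiableOn.mul (DifferentiableOn.fun_sum fun j _ => ?_) (huD.inv hu0)
    exact (differentiable_snd.differentiableOn.pow j).mul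
      ((hcD j).comp differentiable_fst.differentiableOn fun p hp => hp.1)
  have hhb : ∀ p ∈ D, ‖h p‖ ≤ 1 / 2 * (r / 2) ^ d := by
    intro p hp
    have h1 : ‖∑ j ∈ Finset.range d, p.2 ^ j * c j p.1‖ ≤ δ := by
      refine (norm_sum_le _ _).trans ((Finset.sum_le_sum fun j _ => ?_).trans
        (hesub (ball_subset_ball (min_le_left _ _) hp.1)).le)
      rw [norm_mul, norm_pow]
      gcongr
      exact (mem_ball_zero_iff.1 hp.2).le
    have h2 : ‖(u p)⁻¹‖ ≤ 2 / α := by
      rw [norm_inv]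
      exact (inv_anti₀ (by positivity) (hsub' p hp).1.le).trans_eq (by field_simp)
    calc ‖h p‖ = ‖∑ j ∈ Finset.range d, p.2 ^ j * c j p.1‖ * ‖(u p)⁻¹‖ := norm_mul _ _
      _ ≤ δ * (2 / α) := by gcongr
      _ = 1 / 2 * (r / 2) ^ d := by rw [hδ]; field_simp; ring
  -- the iteration
  set M := ‖f 0‖ + 1
  let P : ℕ → E × ℂ → ℂ := fun k => Nat.rec f (fun _ Pk => fun p => -(h p * slope^[d] Pk p)) k
  have hP : ∀ k, DifferentiableOn ℂ (P k) D ∧ ∀ p ∈ D, ‖P k p‖ ≤ M * (1 / 2) ^ k := by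
    intro k
    induction k with
    | zero => exact ⟨hdf.mono fun p hp => ball_subset_ball ((min_le_left _ _).trans
        (min_le_right _ _)) (hDball hp), fun p hp => by
      change ‖f p‖ ≤ M * (1 / 2) ^ 0
      rw [pow_zero, mul_one]; exact (hsub' p hp).2.le⟩
    | succ k ih =>
      obtain ⟨hd1, hb1⟩ := iterate_slope_facts isOpen_ball hr0 ih.1 ih.2 d
      refine ⟨(hhD.mul hd1).neg, fun p hp => ?_⟩
      calc ‖P (k + 1) p‖ = ‖h p‖ * ‖slope^[d] (P k) p‖ := by
            change ‖-(h p * slope^[d] (P k) p)‖ = _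
            rw [norm_neg, norm_mul]
        _ ≤ 1 / 2 * (r / 2) ^ d * ((2 / r) ^ d * (M * (1 / 2) ^ k)) :=
            mul_le_mul (hhb p hp) (hb1 p hp) (norm_nonneg _) (by positivity)
        _ = M * (1 / 2) ^ (k + 1) := by
            have : (r / 2) ^ d * (2 / r) ^ d = 1 := by
              rw [← mul_pow]; field_simp; simp
            rw [pow_succ]
            linear_combination (M * (1 / 2) ^ k / 2) * this
  have hq : ∀ j k, DifferentiableOn ℂ (slope^[j] (P k)) D ∧
      ∀ p ∈ D, ‖slope^[j] (P k) p‖ ≤ (2 / r) ^ j * (M * (1 / 2) ^ k) := fun j k =>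
    iterate_slope_facts isOpen_ball hr0 (hP k).1 (hP k).2 j
  have hsum : ∀ j : ℕ, Summable fun k : ℕ => (2 / r) ^ j * (M * (1 / 2 : ℝ) ^ k) := fun j =>
    ((summable_geometric_of_lt_one (by norm_num) (by norm_num)).mul_left M).mul_left _
  set Q : E × ℂ → ℂ := fun p => ∑' k, slope^[d] (P k) p with hQ
  set A : ℕ → E → ℂ := fun j x => ∑' k, slope^[j] (P k) (x, 0) with hA
  have hAd : ∀ j, DifferentiableOn ℂ (A j) (ball (0 : E) ε) := fun j =>
    differentiableOn_tsum isOpen_ball (hsum j)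
      (fun k => (hq j k).1.comp (by fun_prop) fun x hx => ⟨hx, mem_ball_self hr0⟩)
      fun k x hx => (hq j k).2 (x, 0) ⟨hx, mem_ball_self hr0⟩
  have hQd : DifferentiableOn ℂ Q D :=
    differentiableOn_tsum hDo (hsum d) (fun k => (hq d k).1) (hq d · |>.2)
  have hid : ∀ p ∈ D, f p =
      (∑ j ∈ Finset.range d, A j p.1 * p.2 ^ j) + g p * (Q p * (u p)⁻¹) := by
    intro p hp
    have hsP : Summable fun k => P k p := Summable.of_norm_bounded (hsum 0) fun k => by
      simpa using (hP k).2 p hp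
    have hsj : ∀ j, ∀ x ∈ D, Summable fun k => slope^[j] (P k) x := fun j x hx =>
      Summable.of_norm_bounded (hsum j) fun k => (hq j k).2 x hx
    have h1 : ∑' k, P k p = ∑ j ∈ Finset.range d, p.2 ^ j * A j p.1 + p.2 ^ d * Q p := by
      simp_rw [hA, hQ, ← tsum_mul_left]
      rw [← Summable.tsum_finsetSum fun j _ =>
          (hsj j (p.1, 0) ⟨hp.1, mem_ball_self hr0⟩).mul_left _,
        ← (summable_sum fun j _ => (hsj j (p.1, 0) ⟨hp.1, mem_ball_self hr0⟩).mul_left _).tsum_add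
          ((hsj d p hp).mul_left _)]
      exact tsum_congr fun k => expand (P k) d p
    have h2 : ∑' k, P k p = f p - h p * Q p := by
      rw [hsP.tsum_eq_zero_add, hQ, sub_eq_add_neg, ← tsum_mul_left, ← tsum_neg]
      rfl
    rw [hgu p hp, mul_comm (Q p), ← mul_assoc, mul_assoc (p.2 ^ d + h p), mul_inv_cancel₀ (hu0 p hp)]
    simp_rw [mul_comm (A _ _)]
    linear_combination (h1.symm.trans h2).symm
  refine ⟨fun j => mk (A j) (holAt_of_nhds (ball_mem_nhds _ hε) (hAd j)),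
    mk (fun p => Q p * (u p)⁻¹) (holAt_of_nhds hD0 (hQd.mul (huD.inv hu0))), ?_⟩
  refine Subtype.ext ?_
  simp only [Subring.coe_add, AddSubmonoidClass.coe_finsetSum, Subring.coe_mul,
    SubmonoidClass.coe_pow]
  change (Germ.coeRingHom (𝓝 (0 : E × ℂ)) f) = ∑ j ∈ Finset.range d,
    (Germ.coeRingHom (𝓝 0) fun p : E × ℂ => A j p.1) *
      (Germ.coeRingHom (𝓝 0) fun p : E × ℂ => p.2) ^ j +
      Germ.coeRingHom (𝓝 0) g * Germ.coeRingHom (𝓝 0) fun p => Q p * (u p)⁻¹
  simp only [← map_pow, ← map_mul, ← map_sum, ← map_add]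
  refine Germ.coe_eq.2 ?_
  filter_upwards [hD0] with p hp
  simp [hid p hp]

end AnStalkH3
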