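import Groth.Agent.AnStalkH3.Unramified

/-!
# Closed points detect open properties
-/

open AlgebraicGeometry CategoryTheory TopologicalSpace Topology IsLocalRing

noncomputable section

set_option backward.isDefEq.respectTransparency.types false

namespace AnStalkH3

open An

variable {X : Scheme.{0}} [X.Over SC] [LocallyOfFiniteType (X ↘ SC)]

/-- An open set containing every ℂ-point is everything. -/
theorem forall_mem_of_open {S : Set X} (hS : IsOpen S) (h : ∀ x : Pts X, x.pt ∈ S) (z : X) : z ∈ S := by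
  by_contra hz
  obtain ⟨x, hx⟩ := Groth.Agent.AnLib.exists_pt_mem hS.isClosed_compl.isLocallyClosed ⟨z, hz⟩
  exact hx (h x)

variable {Y : Scheme.{0}} [Y.Over SC] [LocallyOfFiniteType (Y ↘ SC)] (f : X ⟶ Y) [f.IsOver SC]

include f in
theorem locallyOfFiniteType : LocallyOfFiniteType f :=
  have : LocallyOfFiniteType (f ≫ (Y ↘ SC)) := by rw [comp_over f SC]; infer_instance
  locallyOfFiniteType_of_comp f (Y ↘ SC)

theorem formallyUnramified_iff [IsReduced X] :
    FormallyUnramified f ↔ ∀ x : Pts X,
      (maximalIdeal (AnStalk (Pts.map f x))).map (anStalkMap f x) = maximalIdeal (AnStalk x) := by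
  haveI := locallyOfFiniteType f
  refine ⟨fun h x => (formallyUnramified_stalk_iff_an f x).1 (FormallyUnramified.stalkMap f x.pt),
    fun h => ?_⟩
  rw [Groth.Agent.FlatLocal.formallyUnramified_iff_stalkMap]
  let S : Set X := {z | ∃ U : X.Opens, z ∈ U ∧ FormallyUnramified (U.ι ≫ f)}
  have hSo : IsOpen S := isOpen_iff_forall_mem_open.2 fun z ⟨U, hzU, hU⟩ =>
    ⟨U, fun w hw => ⟨U, hw, hU⟩, U.2, hzU⟩
  intro z
  exact (Groth.Agent.FlatLocal.formallyUnramified_nhd_iff f z).1 (forall_mem_of_open hSo (fun x =>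
    (Groth.Agent.FlatLocal.formallyUnramified_nhd_iff f x.pt).2
      ((formallyUnramified_stalk_iff_an f x).2 (h x))) z)

end AnStalkH3
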