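import Groth.Agent.AnStalkH3.Germs
import Mathlib.Analysis.Analytic.Uniqueness
import Mathlib.LinearAlgebra.FiniteDimensional.Basic
import Mathlib.Topology.Algebra.Module.FiniteDimension
import Mathlib.RingTheory.Finiteness.Ideal
import Mathlib.RingTheory.Ideal.Quotient.Operations

/-!
# Germs of holomorphic functions form a Noetherian ring, maximal ideal generated by functionals
-/

noncomputable section

open Metric Set Filter Topology
open scoped Topology

namespace AnStalkH3

variable {E : Type} [NormedAddCommGroup E] [NormedSpace ℂ E] [FiniteDimensional ℂ E]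

omit [FiniteDimensional ℂ E] in
theorem exists_line {f : E → ℂ} (hf : HolAt f) (h0 : f 0 = 0) (hne : mk f hf ≠ 0) :
    ∃ v : E, v ≠ 0 ∧ ¬ ∀ᶠ t in 𝓝 (0 : ℂ), f (t • v) = 0 := by
  by_contra hcon
  push Not at hcon
  apply hne
  rw [mk_eq_zero]
  obtain ⟨r, hr, hd⟩ := hf
  filter_upwards [ball_mem_nhds (0 : E) hr] with x hx
  rcases eq_or_ne x 0 with rfl | hx0
  · exact h0
  have hx' : 0 < ‖x‖ := norm_pos_iff.2 hx0
  rw [mem_ball_zero_iff] at hx
  have hmaps : MapsTo (fun t : ℂ => t • x) (ball 0 (r / ‖x‖)) (ball 0 r) := fun t ht => by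
    rw [mem_ball_zero_iff] at ht ⊢
    rw [norm_smul]
    exact (lt_div_iff₀ hx').1 ht
  have han : AnalyticOnNhd ℂ (fun t : ℂ => f (t • x)) (ball 0 (r / ‖x‖)) :=
    (hd.comp (by fun_prop) hmaps).analyticOnNhd isOpen_ball
  have := han.eqOn_zero_of_preconnected_of_eventuallyEq_zero
    (convex_ball _ _).isPreconnected (mem_ball_self (by positivity)) (hcon x hx0)
    (show (1 : ℂ) ∈ ball (0 : ℂ) (r / ‖x‖) by
      rw [mem_ball_zero_iff, norm_one, one_lt_div hx']; exact hx)
  simpa using this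

/-- Splitting off a line. -/
theorem exists_split {v : E} (hv : v ≠ 0) {n : ℕ} (hn : Module.finrank ℂ E = n + 1) :
    ∃ (W : Submodule ℂ E) (e : (W × ℂ) ≃L[ℂ] E),
      Module.finrank ℂ W = n ∧ ∀ t : ℂ, e (0, t) = t • v := by
  obtain ⟨W, hW⟩ := Submodule.exists_isCompl (ℂ ∙ v)
  let e₀ : (W × ℂ) ≃ₗ[ℂ] E :=
    ((LinearEquiv.refl ℂ W).prodCongr (LinearEquiv.toSpanNonzeroSingleton ℂ E v hv)).trans
      (Submodule.prodEquivOfIsCompl W (ℂ ∙ v) hW.symm)
  refine ⟨W, e₀.toContinuousLinearEquiv, ?_, fun t => ?_⟩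
  · have := e₀.finrank_eq
    rw [Module.finrank_prod, Module.finrank_self, hn] at this
    omega
  · simp [e₀, LinearEquiv.toSpanNonzeroSingleton_apply]

theorem exists_regular {g : E × ℂ → ℂ} (hg : HolAt g)
    (hline : ¬ ∀ᶠ t in 𝓝 (0 : ℂ), g (0, t) = 0) :
    ∃ d, (∀ j < d, slope^[j] g 0 = 0) ∧ slope^[d] g 0 ≠ 0 := by
  classical
  obtain ⟨r, hr, hd⟩ := hg.comp (φ := fun t : ℂ => ((0 : E), t)) univ_mem (by fun_prop) rfl
  obtain ⟨p, hp⟩ := hd.analyticAt (ball_mem_nhds _ hr)
  have hp0 : p ≠ 0 := fun h => hline (hp.locally_zero_iff.2 h)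
  have hex : ∃ j, slope^[j] g 0 ≠ 0 := ⟨p.order, by
    have := HasFPowerSeriesAt.iterate_dslope_fslope_ne_zero hp hp0
    rw [← Prod.mk_zero_zero (M := E) (N := ℂ)]
    rw [show slope^[p.order] g ((0 : E), (0 : ℂ)) = (fun t => slope^[p.order] g ((0 : E), t)) 0
      from rfl, iterate_slope_line]
    exact this⟩
  exact ⟨Nat.find hex, fun j hj => not_not.1 (Nat.find_min hex hj), Nat.find_spec hex⟩

theorem isNoetherianRing_quot [IsNoetherianRing (O E)] {g : E × ℂ → ℂ} (hg : HolAt g) {d : ℕ}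
    (hlow : ∀ j < d, slope^[j] g 0 = 0) (hd : slope^[d] g 0 ≠ 0) :
    IsNoetherianRing (O (E × ℂ) ⧸ Ideal.span {mk g hg}) := by
  classical
  set J : Ideal (O (E × ℂ)) := Ideal.span {mk g hg} with hJ
  letI := ((Ideal.Quotient.mk J).comp (fstHom (E := E))).toAlgebra
  haveI : Module.Finite (O E) (O (E × ℂ) ⧸ J) := by
    refine ⟨⟨(Finset.range d).image fun j => Ideal.Quotient.mk J (lastCoord ^ j), ?_⟩⟩
    rw [eq_top_iff]
    rintro x -
    obtain ⟨φ, rfl⟩ := Ideal.Quotient.mk_surjective x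
    obtain ⟨A, q, rfl⟩ := division hg hlow hd φ
    rw [map_add, map_sum, map_mul (Ideal.Quotient.mk J) (mk _ _),
      Ideal.Quotient.eq_zero_iff_mem.2 (Ideal.subset_span (mem_singleton _)), zero_mul, add_zero]
    refine Submodule.sum_mem _ fun j hj => ?_
    have h : Ideal.Quotient.mk J (fstHom (A j) * lastCoord ^ j) =
        A j • Ideal.Quotient.mk J (lastCoord ^ j) := by
      rw [map_mul]; rfl
    rw [h]
    exact Submodule.smul_mem _ _ (Submodule.subset_span (Finset.mem_coe.2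
      (Finset.mem_image_of_mem _ hj)))
  exact IsNoetherianRing.of_finite (O E) _

omit [FiniteDimensional ℂ E] in
theorem eval0_injective_of_subsingleton [Subsingleton E] : Function.Injective (eval0 E) := by
  rw [injective_iff_map_eq_zero]
  intro φ h
  obtain ⟨f, hf, rfl⟩ := exists_rep φ
  rw [eval0_mk] at h
  rw [mk_eq_zero]
  exact Eventually.of_forall fun x => by rw [Subsingleton.elim x 0, h]

theorem noetherian_aux : ∀ (n : ℕ) (E : Type) [NormedAddCommGroup E] [NormedSpace ℂ E]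
    [FiniteDimensional ℂ E], Module.finrank ℂ E = n → IsNoetherianRing (O E) := by
  intro n
  induction n with
  | zero =>
    intro E _ _ _ hE
    haveI : Subsingleton E := Module.finrank_zero_iff.1 hE
    exact isNoetherianRing_of_ringEquiv ℂ (RingEquiv.ofBijective (eval0 E)
      ⟨eval0_injective_of_subsingleton, fun c => ⟨constHom c, rfl⟩⟩).symm
  | succ n ih =>
    intro E _ _ _ hE
    refine (isNoetherianRing_iff_ideal_fg _).2 fun I => ?_
    by_cases hI : I = ⊥
    · rw [hI]; exact Submodule.fg_bot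
    obtain ⟨a, ha, ha0⟩ := Submodule.exists_mem_ne_zero_of_ne_bot hI
    obtain ⟨f, hf, rfl⟩ := exists_rep a
    by_cases hf0 : f 0 = 0
    swap
    · rw [Ideal.eq_top_of_isUnit_mem I ha ((isUnit_iff _).2 hf0)]
      exact ⟨{1}, by simp⟩
    obtain ⟨v, hv, hline⟩ := exists_line hf hf0 ha0
    obtain ⟨W, e, hW, hev⟩ := exists_split hv hE
    haveI := ih W hW
    have hf' : HolAt (f ∘ e) :=
      hf.comp univ_mem (e : (W × ℂ) →L[ℂ] E).differentiable.differentiableOn (map_zero e)
    obtain ⟨d, hlow, hd⟩ := exists_regular hf' (by simpa [hev] using hline)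
    haveI := isNoetherianRing_quot hf' hlow hd
    set J : Ideal (O (W × ℂ)) := Ideal.span {mk (f ∘ e) hf'} with hJ
    have hg : mk (f ∘ e) hf' = congrL e (mk f hf) := rfl
    let π : O E →+* O (W × ℂ) ⧸ J :=
      (Ideal.Quotient.mk J).comp (congrL e).toRingHom
    have hπ : Function.Surjective π :=
      Ideal.Quotient.mk_surjective.comp (congrL e).surjective
    have hker : RingHom.ker π = Ideal.span {mk f hf} := by
      ext x
      change Ideal.Quotient.mk J (congrL e x) = 0 ↔ _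
      rw [Ideal.Quotient.eq_zero_iff_mem, hJ, hg, Ideal.mem_span_singleton,
        Ideal.mem_span_singleton, map_dvd_iff]
    refine Ideal.fg_of_fg_map_of_fg_inf_ker_of_surjective (f := π) ?_ ?_ hπ
    · exact IsNoetherian.noetherian _
    · rw [hker, inf_eq_right.2 ((Ideal.span_singleton_le_iff_mem I).2 ha)]
      exact ⟨{mk f hf}, by simp⟩

instance : IsNoetherianRing (O E) := noetherian_aux _ E rfl

theorem ker_eval0_le_aux : ∀ (n : ℕ) (E : Type) [NormedAddCommGroup E] [NormedSpace ℂ E]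
    [FiniteDimensional ℂ E], Module.finrank ℂ E = n →
      RingHom.ker (eval0 E) ≤ Ideal.span (Set.range (lin : (E →L[ℂ] ℂ) → O E)) := by
  intro n
  induction n with
  | zero =>
    intro E _ _ _ hE φ hφ
    haveI : Subsingleton E := Module.finrank_zero_iff.1 hE
    rw [eval0_injective_of_subsingleton (hφ.trans (map_zero (eval0 E)).symm)]
    exact zero_mem _
  | succ n ih =>
    intro E _ _ _ hE φ hφ
    haveI : Nontrivial E := Module.finrank_pos_iff.1 (by omega : 0 < Module.finrank ℂ E)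
    obtain ⟨v, hv⟩ := exists_ne (0 : E)
    obtain ⟨W, e, hW, -⟩ := exists_split hv hE
    obtain ⟨ψ, rfl⟩ := (congrL e.symm).surjective φ
    obtain ⟨f, hf, rfl⟩ := exists_rep ψ
    have h0 : f 0 = 0 := by
      have : f (e.symm 0) = 0 := hφ
      simpa using this
    have hmem : mk f hf ∈ Ideal.span (Set.range (lin : ((W × ℂ) →L[ℂ] ℂ) → O (W × ℂ))) := by
      have hdec : mk f hf = fstHom (mk _ (holAt_restrict hf)) +
          lastCoord * mk (slope f) (holAt_iterate_slope hf 1) := by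
        refine Subtype.ext (Germ.coe_eq.2 (Eventually.of_forall fun p => ?_))
        exact eq_slope f p
      rw [hdec]
      refine add_mem ?_ (Ideal.mul_mem_right _ _ (Ideal.subset_span ⟨_, rfl⟩))
      have h1 : fstHom (mk _ (holAt_restrict hf)) ∈
          (Ideal.span (Set.range (lin : (W →L[ℂ] ℂ) → O W))).map (fstHom (E := W)) :=
        Ideal.mem_map_of_mem _ (ih W hW (show f (0, 0) = 0 from h0))
      rw [Ideal.map_span] at h1
      refine Ideal.span_mono ?_ h1
      rintro _ ⟨_, ⟨l, rfl⟩, rfl⟩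
      exact ⟨l.comp (ContinuousLinearMap.fst ℂ W ℂ), rfl⟩
    have h2 := Ideal.mem_map_of_mem (congrL e.symm).toRingHom hmem
    rw [Ideal.map_span] at h2
    refine Ideal.span_mono ?_ h2
    rintro _ ⟨_, ⟨l, rfl⟩, rfl⟩
    exact ⟨l.comp (e.symm : E →L[ℂ] (W × ℂ)), rfl⟩

theorem maximalIdeal_eq :
    IsLocalRing.maximalIdeal (O E) = Ideal.span (Set.range (lin : (E →L[ℂ] ℂ) → O E)) := by
  refine le_antisymm (fun φ hφ => ker_eval0_le_aux _ E rfl (mem_maximalIdeal.1 hφ)) ?_
  rw [Ideal.span_le]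
  rintro _ ⟨l, rfl⟩
  exact mem_maximalIdeal.2 (map_zero l)

end AnStalkH3
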