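import Mathlib.Analysis.Complex.RemovableSingularity
import Mathlib.Analysis.Complex.Liouville
import Mathlib.Analysis.Complex.Schwarz
import Mathlib.Analysis.Calculus.ParametricIntervalIntegral
import Mathlib.Analysis.Calculus.FDeriv.Measurable
import Mathlib.Analysis.Calculus.SmoothSeries

/-!
# Holomorphic functions of several variables: Cauchy estimate, parameter integrals, slopes, series
-/

noncomputable section

open Metric Set Filter Topology MeasureTheory Complex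
open scoped Real Topology Interval

namespace AnStalkH3

variable {E : Type*} [NormedAddCommGroup E] [NormedSpace ℂ E]

/-- Cauchy estimate for the derivative, several variables. -/
theorem norm_fderiv_le {g : E → ℂ} {x : E} {δ M : ℝ} (hδ : 0 < δ)
    (hd : DifferentiableOn ℂ g (ball x δ)) (hb : ∀ y ∈ ball x δ, ‖g y‖ ≤ M) :
    ‖fderiv ℂ g x‖ ≤ 2 * M / δ := by
  have hM : 0 ≤ M := (norm_nonneg _).trans (hb x (mem_ball_self hδ))
  refine ContinuousLinearMap.opNorm_le_bound _ (by positivity) fun v => ?_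
  rcases eq_or_ne v 0 with rfl | hv
  · simp
  have hv' : 0 < ‖v‖ := norm_pos_iff.2 hv
  set R := δ / (2 * ‖v‖) with hR
  have hR0 : 0 < R := by positivity
  have hmem : ∀ t ∈ closedBall (0 : ℂ) R, x + t • v ∈ ball x δ := by
    intro t ht
    rw [mem_closedBall_zero_iff] at ht
    rw [mem_ball, dist_eq_norm, add_sub_cancel_left, norm_smul]
    calc ‖t‖ * ‖v‖ ≤ R * ‖v‖ := by gcongr
      _ = δ / 2 := by rw [hR]; field_simp
      _ < δ := by linarith
  have haff : Differentiable ℂ fun t : ℂ => x + t • v := by fun_prop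
  have hc : DifferentiableOn ℂ (fun t : ℂ => g (x + t • v)) (closedBall 0 R) :=
    hd.comp haff.differentiableOn hmem
  have hdc : DiffContOnCl ℂ (fun t : ℂ => g (x + t • v)) (ball 0 R) :=
    ⟨hc.mono ball_subset_closedBall, by rw [closure_ball _ hR0.ne']; exact hc.continuousOn⟩
  have hest := norm_deriv_le_of_forall_mem_sphere_norm_le (c := (0 : ℂ)) hR0 hdc
    (fun t ht => hb _ (hmem t (sphere_subset_closedBall ht)))
  have hder : HasDerivAt (fun t : ℂ => g (x + t • v)) (fderiv ℂ g x v) 0 := by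
    have h1 : HasDerivAt (fun t : ℂ => x + t • v) v 0 := by
      simpa using ((hasDerivAt_id (0 : ℂ)).smul_const v).const_add x
    have h2 : HasFDerivAt g (fderiv ℂ g x) (x + (0 : ℂ) • v) := by
      simpa using ((hd.differentiableAt (isOpen_ball.mem_nhds (mem_ball_self hδ))).hasFDerivAt)
    exact h2.comp_hasDerivAt (0 : ℂ) h1
  rw [hder.deriv] at hest
  calc ‖fderiv ℂ g x v‖ ≤ M / R := hest
    _ = 2 * M / δ * ‖v‖ := by rw [hR]; field_simp

/-- A series of holomorphic functions with summable sup bounds is holomorphic. -/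
theorem differentiableOn_tsum {f : ℕ → E → ℂ} {U : Set E} (hU : IsOpen U) {u : ℕ → ℝ}
    (hu : Summable u) (hf : ∀ k, DifferentiableOn ℂ (f k) U)
    (hb : ∀ k, ∀ x ∈ U, ‖f k x‖ ≤ u k) :
    DifferentiableOn ℂ (fun x => ∑' k, f k x) U := by
  intro x₀ hx₀
  obtain ⟨δ, hδ, hsub⟩ := Metric.isOpen_iff.1 hU x₀ hx₀
  refine DifferentiableAt.differentiableWithinAt ?_
  have hsub' : ∀ y ∈ ball x₀ (δ / 2), ball y (δ / 2) ⊆ U := fun y hy =>
    (ball_subset_ball' (by rw [mem_ball] at hy; linarith)).trans hsub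
  refine HasFDerivAt.differentiableAt (f' := ∑' k, fderiv ℂ (f k) x₀)
    (hasFDerivAt_tsum_of_isPreconnected (u := fun k => 2 * u k / (δ / 2))
      ((hu.mul_left 2).div_const _) isOpen_ball (convex_ball x₀ (δ / 2)).isPreconnected
      (fun k y hy => ((hf k).differentiableAt
        (hU.mem_nhds (hsub' y hy (mem_ball_self (half_pos hδ))))).hasFDerivAt)
      (fun k y hy => norm_fderiv_le (half_pos hδ) ((hf k).mono (hsub' y hy))
        fun z hz => hb k z (hsub' y hy hz))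
      (mem_ball_self (half_pos hδ)) ?_ (mem_ball_self (half_pos hδ)))
  exact Summable.of_norm_bounded hu fun k => hb k x₀ hx₀

variable [FiniteDimensional ℂ E]

/-- Integrals depending holomorphically on a parameter. -/
theorem differentiableOn_intervalIntegral {Φ : E × ℂ → ℂ} {U : Set E} {O : Set ℂ} (hU : IsOpen U)
    (hO : IsOpen O) (hΦ : DifferentiableOn ℂ Φ (U ×ˢ O)) {γ : ℝ → ℂ} (hγ : Continuous γ)
    (hγO : ∀ θ, γ θ ∈ O) (a b : ℝ) :
    DifferentiableOn ℂ (fun x => ∫ θ in a..b, Φ (x, γ θ)) U := by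
  borelize E
  haveI : CompleteSpace E := FiniteDimensional.complete ℂ E
  haveI : ProperSpace E := FiniteDimensional.proper ℂ E
  intro x₀ hx₀
  obtain ⟨δ, hδ, hsub⟩ := Metric.isOpen_iff.1 hU x₀ hx₀
  refine DifferentiableAt.differentiableWithinAt ?_
  have hcb : closedBall x₀ (2 * (δ / 3)) ⊆ U := (closedBall_subset_ball (by linarith)).trans hsub
  have hK : IsCompact (closedBall x₀ (2 * (δ / 3)) ×ˢ (γ '' uIcc a b)) :=
    (isCompact_closedBall _ _).prod (isCompact_uIcc.image hγ)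
  obtain ⟨M, hM⟩ := hK.exists_bound_of_continuousOn (f := Φ)
    (hΦ.continuousOn.mono (prod_mono hcb (image_subset_iff.2 fun θ _ => hγO θ)))
  have hUO : IsOpen (U ×ˢ O) := hU.prod hO
  have hfd : ∀ x ∈ U, ∀ ζ ∈ O, HasFDerivAt (fun y => Φ (y, ζ))
      ((fderiv ℂ Φ (x, ζ)).comp (ContinuousLinearMap.inl ℂ E ℂ)) x := fun x hx ζ hζ =>
    ((hΦ.differentiableAt (hUO.mem_nhds ⟨hx, hζ⟩)).hasFDerivAt).comp x
      (hasFDerivAt_prodMk_left x ζ)
  have hball : ball x₀ (δ / 3) ⊆ U := (ball_subset_ball (by linarith)).trans hsub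
  have hmeas : AEStronglyMeasurable
      (fun θ => (fderiv ℂ Φ (x₀, γ θ)).comp (ContinuousLinearMap.inl ℂ E ℂ))
      (volume.restrict (Ι a b)) := by
    borelize (E × ℂ →L[ℂ] ℂ)
    have h1 : Measurable fun θ => fderiv ℂ Φ (x₀, γ θ) :=
      (measurable_fderiv ℂ Φ).comp ((continuous_const.prodMk hγ).measurable)
    have h2 : Continuous fun L : E × ℂ →L[ℂ] ℂ => L.comp (ContinuousLinearMap.inl ℂ E ℂ) := by
      fun_prop
    haveI : SecondCountableTopology (E × ℂ →L[ℂ] ℂ) := by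
      haveI : ProperSpace (E × ℂ →L[ℂ] ℂ) := FiniteDimensional.proper ℂ _
      infer_instance
    exact (h2.comp_stronglyMeasurable h1.stronglyMeasurable).aestronglyMeasurable
  refine HasFDerivAt.differentiableAt (intervalIntegral.hasFDerivAt_integral_of_dominated_of_fderiv_le
    (F' := fun x θ => (fderiv ℂ Φ (x, γ θ)).comp (ContinuousLinearMap.inl ℂ E ℂ))
    (bound := fun _ => 2 * M / (δ / 3)) (s := ball x₀ (δ / 3))
    (ball_mem_nhds _ (by linarith)) ?_ ?_ hmeas ?_ intervalIntegrable_const ?_)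
  · filter_upwards [hU.mem_nhds hx₀] with x hx
    exact (hΦ.continuousOn.comp_continuous (continuous_const.prodMk hγ)
      fun θ => ⟨hx, hγO θ⟩).aestronglyMeasurable
  · exact (hΦ.continuousOn.comp_continuous (continuous_const.prodMk hγ)
      fun θ => ⟨hx₀, hγO θ⟩).intervalIntegrable a b
  · refine Eventually.of_forall fun θ hθ x hx => ?_
    rw [← (hfd x (hball hx) (γ θ) (hγO θ)).fderiv]
    have hsub2 : ball x (δ / 3) ⊆ closedBall x₀ (2 * (δ / 3)) := by
      intro y hy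
      rw [mem_ball] at hy hx
      rw [mem_closedBall]
      linarith [dist_triangle y x x₀]
    refine norm_fderiv_le (by linarith) (fun y hy => ((hfd y (hcb (hsub2 hy)) (γ θ)
      (hγO θ)).differentiableAt.differentiableWithinAt)) fun y hy => hM _ ⟨hsub2 hy, θ,
        uIoc_subset_uIcc hθ, rfl⟩
  · exact Eventually.of_forall fun θ _ x hx => hfd x (hball hx) (γ θ) (hγO θ)

/-- The slope in the last variable of a holomorphic function is holomorphic. -/
theorem differentiableOn_slope {f : E × ℂ → ℂ} {U : Set E} {r : ℝ} (hU : IsOpen U)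
    (hf : DifferentiableOn ℂ f (U ×ˢ ball (0 : ℂ) r)) :
    DifferentiableOn ℂ (fun p : E × ℂ => dslope (fun t => f (p.1, t)) 0 p.2)
      (U ×ˢ ball (0 : ℂ) r) := by
  rintro ⟨x₀, w₀⟩ ⟨hx₀, hw₀⟩
  rw [mem_ball_zero_iff] at hw₀
  obtain ⟨ρ, hρ1, hρ2⟩ := exists_between hw₀
  obtain ⟨r', hr1, hr2⟩ := exists_between hρ2
  have hρ0 : 0 < ρ := (norm_nonneg _).trans_lt hρ1
  have hr0 : 0 < r' := hρ0.trans hr1
  have hV : IsOpen (U ×ˢ ball (0 : ℂ) ρ) := hU.prod isOpen_ball
  set O : Set ℂ := ball 0 r \ closedBall 0 ρ with hOdef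
  have hO : IsOpen O := isOpen_ball.sdiff isClosed_closedBall
  set Φ : (E × ℂ) × ℂ → ℂ := fun q =>
    q.2 * I * ((q.2 - q.1.2)⁻¹ * ((f (q.1.1, q.2) - f (q.1.1, 0)) / q.2)) with hΦ
  have hr' : ∀ θ, circleMap (0 : ℂ) r' θ ∈ O := fun θ => by
    constructor
    · rw [mem_ball_zero_iff, norm_circleMap_zero, abs_of_pos hr0]; exact hr2
    · rw [mem_closedBall_zero_iff, norm_circleMap_zero, abs_of_pos hr0]; exact not_le.2 hr1
  have hne : ∀ q ∈ (U ×ˢ ball (0 : ℂ) ρ) ×ˢ O, q.2 ≠ 0 ∧ q.2 - q.1.2 ≠ 0 := by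
    rintro ⟨⟨x, w⟩, ζ⟩ ⟨⟨-, hw⟩, -, hζ⟩
    rw [mem_ball_zero_iff] at hw
    rw [mem_closedBall_zero_iff, not_le] at hζ
    refine ⟨fun h => ?_, fun h => ?_⟩
    · change ζ = 0 at h
      rw [h, norm_zero] at hζ; linarith
    · rw [sub_eq_zero] at h
      change ζ = w at h
      rw [h] at hζ; linarith
  have hdΦ : DifferentiableOn ℂ Φ ((U ×ˢ ball (0 : ℂ) ρ) ×ˢ O) := by
    have h1 : DifferentiableOn ℂ (fun q : (E × ℂ) × ℂ => f (q.1.1, q.2))
        ((U ×ˢ ball (0 : ℂ) ρ) ×ˢ O) :=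
      hf.comp (by fun_prop) fun q hq => ⟨hq.1.1, hq.2.1⟩
    have h2 : DifferentiableOn ℂ (fun q : (E × ℂ) × ℂ => f (q.1.1, 0))
        ((U ×ˢ ball (0 : ℂ) ρ) ×ˢ O) :=
      hf.comp (by fun_prop) fun q hq =>
        ⟨hq.1.1, mem_ball_zero_iff.2 (by simpa using (norm_nonneg _).trans_lt hw₀)⟩
    have e2 : DifferentiableOn ℂ (fun q : (E × ℂ) × ℂ => q.2)
        ((U ×ˢ ball (0 : ℂ) ρ) ×ˢ O) := differentiable_snd.differentiableOn
    have e1 : DifferentiableOn ℂ (fun q : (E × ℂ) × ℂ => q.1.2)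
        ((U ×ˢ ball (0 : ℂ) ρ) ×ˢ O) :=
      (differentiable_snd.comp differentiable_fst).differentiableOn
    exact (e2.mul_const I).mul (((e2.sub e1).inv fun q hq => (hne q hq).2).mul
      (((h1.sub h2).mul (e2.inv fun q hq => (hne q hq).1)).congr fun q _ => div_eq_mul_inv _ _))
  have hG := differentiableOn_intervalIntegral hV hO hdΦ (continuous_circleMap 0 r') hr' 0 (2 * π)
  have heq : ∀ p ∈ U ×ˢ ball (0 : ℂ) ρ, dslope (fun t => f (p.1, t)) 0 p.2 =
      (2 * π * I : ℂ)⁻¹ * ∫ θ in (0 : ℝ)..2 * π, Φ (p, circleMap 0 r' θ) := by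
    rintro ⟨x, w⟩ ⟨hx, hw⟩
    have hg : DifferentiableOn ℂ (fun t => f (x, t)) (ball 0 r) :=
      hf.comp (by fun_prop) fun t ht => ⟨hx, ht⟩
    have hh : DifferentiableOn ℂ (dslope (fun t => f (x, t)) 0) (ball 0 r) :=
      (differentiableOn_dslope (ball_mem_nhds _ (hr0.trans hr2))).2 hg
    have hw' : w ∈ ball (0 : ℂ) r' := ball_subset_ball hr1.le hw
    have hc := two_pi_I_inv_smul_circleIntegral_sub_inv_smul_of_differentiable_on_off_countable
      countable_empty hw' (hh.continuousOn.mono (closedBall_subset_ball hr2))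
      fun z hz => hh.differentiableAt (isOpen_ball.mem_nhds (ball_subset_ball hr2.le hz.1))
    rw [← hc, smul_eq_mul, circleIntegral]
    congr 1
    refine intervalIntegral.integral_congr fun θ _ => ?_
    have hz : circleMap (0 : ℂ) r' θ ≠ 0 := circleMap_ne_center hr0.ne'
    simp only [deriv_circleMap, smul_eq_mul, hΦ, dslope_of_ne _ hz, slope_def_field, sub_zero]
  have hat : DifferentiableOn ℂ (fun p : E × ℂ => dslope (fun t => f (p.1, t)) 0 p.2)
      (U ×ˢ ball (0 : ℂ) ρ) := (hG.const_mul _).congr heq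
  exact (hat.differentiableAt
    (hV.mem_nhds ⟨hx₀, mem_ball_zero_iff.2 hρ1⟩)).differentiableWithinAt

omit [FiniteDimensional ℂ E] in
/-- Schwarz bound for the slope. -/
theorem norm_slope_le {f : E × ℂ → ℂ} {U : Set E} {r M : ℝ} (hr : 0 < r)
    (hf : DifferentiableOn ℂ f (U ×ˢ ball (0 : ℂ) r))
    (hb : ∀ p ∈ U ×ˢ ball (0 : ℂ) r, ‖f p‖ ≤ M) :
    ∀ p ∈ U ×ˢ ball (0 : ℂ) r, ‖dslope (fun t => f (p.1, t)) 0 p.2‖ ≤ 2 * M / r := by
  rintro ⟨x, w⟩ ⟨hx, hw⟩
  refine norm_dslope_le_div_of_mapsTo_ball (R₂ := 2 * M)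
    (hf.comp (by fun_prop) fun t ht => ⟨hx, ht⟩) (fun t ht => ?_) hw
  rw [mem_closedBall, dist_eq_norm]
  have h1 := hb (x, t) ⟨hx, ht⟩
  have h2 := hb (x, 0) ⟨hx, mem_ball_self hr⟩
  linarith [norm_sub_le (f (x, t)) (f (x, 0))]

omit [FiniteDimensional ℂ E] in
theorem slope_spec (f : E × ℂ → ℂ) (p : E × ℂ) :
    f p = f (p.1, 0) + p.2 * dslope (fun t => f (p.1, t)) 0 p.2 := by
  have h := sub_smul_dslope (fun t => f (p.1, t)) 0 p.2
  simp only [sub_zero, smul_eq_mul] at h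
  rw [h]; ring

end AnStalkH3
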