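import Groth.Agent.AnLib.CharDense
import Groth.Agent.CAlgH.NagataIC
import Mathlib.RingTheory.ReesAlgebra
import Mathlib.RingTheory.Valuation.LocalSubring
import Mathlib.RingTheory.Jacobson.Ring

/-!
# Analytic order bounds the adic order
-/

noncomputable section

open Filter Topology Polynomial

namespace AnStalkH3

/-- `|a| ≤ C |s|^k` at characters close to the origin. -/
def Bound {A : Type} [CommRing A] [Algebra ℂ A] {n : ℕ} (s : Fin n → A) (a : A) (k : ℕ) : Prop :=
  ∃ C ε : ℝ, 0 < ε ∧ ∀ ψ : A →ₐ[ℂ] ℂ, ‖fun i => ψ (s i)‖ < ε →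
    ‖ψ a‖ ≤ C * ‖fun i => ψ (s i)‖ ^ k

theorem Bound.map {A B : Type} [CommRing A] [Algebra ℂ A] [CommRing B] [Algebra ℂ B] (f : A →ₐ[ℂ] B)
    {n : ℕ} {s : Fin n → A} {a : A} {k : ℕ} (h : Bound s a k) : Bound (fun i => f (s i)) (f a) k := by
  obtain ⟨C, ε, hε, h⟩ := h
  exact ⟨C, ε, hε, fun ψ hψ => h (ψ.comp f) hψ⟩

set_option maxRecDepth 4000 in
/-- No prime of a chart contains `g^k / a` when `|a| ≤ C |g|^k`. -/
theorem no_prime {A D : Type} [CommRing A] [Algebra ℂ A] [CommRing D] [IsDomain D] [Algebra ℂ D]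
    [Algebra.FiniteType ℂ D] {n : ℕ} (s : Fin n → A) {a : A} {k : ℕ} (i : Fin n) (φ : A →ₐ[ℂ] D)
    (β : D) (γ : Fin n → D) (hab : φ a * β = φ (s i) ^ k)
    (hsγ : ∀ j, φ (s j) = γ j * φ (s i)) (hne : φ (s i * a) ≠ 0)
    (hb : Bound s a k) (Q : Ideal D) [hQ : Q.IsPrime] (hβ : β ∈ Q) (hgQ : φ (s i) ∈ Q) : False := by
  classical
  obtain ⟨C, ε, hε, hbound⟩ := hb
  obtain ⟨Q', hQ', hQQ'⟩ := Ideal.exists_le_maximal Q hQ.ne_top
  letI := Ideal.Quotient.field Q'
  haveI : Algebra.FiniteType ℂ (D ⧸ Q') :=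
    Algebra.FiniteType.of_surjective (Ideal.Quotient.mkₐ ℂ Q') Ideal.Quotient.mk_surjective
  haveI : Module.Finite ℂ (D ⧸ Q') := finite_of_finite_type_of_isJacobsonRing ℂ (D ⧸ Q')
  obtain ⟨y, hy⟩ : ∃ y : D →ₐ[ℂ] ℂ, ∀ d ∈ Q, y d = 0 := by
    let e : ℂ ≃ₐ[ℂ] (D ⧸ Q') := AlgEquiv.ofBijective (Algebra.ofId ℂ (D ⧸ Q'))
      (IsAlgClosed.algebraMap_bijective_of_isIntegral (k := ℂ))
    refine ⟨e.symm.toAlgHom.comp (Ideal.Quotient.mkₐ ℂ Q'), fun d hd => ?_⟩
    change e.symm (Ideal.Quotient.mk Q' d) = 0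
    rw [Ideal.Quotient.eq_zero_iff_mem.2 (hQQ' hd), map_zero]
  -- a nearby character with `g a ≠ 0`
  obtain ⟨N, π, hπ⟩ := Algebra.FiniteType.iff_quotient_mvPolynomial''.1 (inferInstance : Algebra.FiniteType ℂ D)
  have hgen' : Function.Surjective (MvPolynomial.aeval (fun l => π (MvPolynomial.X l)) :
      MvPolynomial (Fin N) ℂ → D) := by
    rw [show (MvPolynomial.aeval fun l => π (MvPolynomial.X l)) = π from
      (MvPolynomial.aeval_unique π).symm]
    exact hπ
  have hcl := Groth.Agent.AnLib.mem_closure_char (fun l => π (MvPolynomial.X l)) hgen' y hne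
  choose p hp using hπ
  set z₀ : Fin N → ℂ := fun l => y (π (MvPolynomial.X l))
  have hev : ∀ (ψ : D →ₐ[ℂ] ℂ) (d : D),
      ψ d = MvPolynomial.eval (fun l => ψ (π (MvPolynomial.X l))) (p d) := fun ψ d => by
    conv_lhs => rw [← hp d]
    rw [← AlgHom.comp_apply, MvPolynomial.aeval_unique (ψ.comp π), MvPolynomial.aeval_eq_eval]
    rfl
  set M : ℝ := 1 + ∑ j, (‖y (γ j)‖ + 1) with hM
  have hpos1 : ∀ j, 0 ≤ ‖y (γ j)‖ + 1 := fun j => add_nonneg (norm_nonneg _) zero_le_one
  have hM1 : 1 ≤ M := le_add_of_nonneg_right (Finset.sum_nonneg fun j _ => hpos1 j)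
  have hM0 : 0 ≤ M := zero_le_one.trans hM1
  set η : ℝ := 1 / (|C| * M ^ k + 1) with hη
  have hden : 0 < |C| * M ^ k + 1 :=
    add_pos_of_nonneg_of_pos (mul_nonneg (abs_nonneg C) (pow_nonneg hM0 k)) one_pos
  have hη0 : 0 < η := one_div_pos.2 hden
  have hnhds : ∀ᶠ z in 𝓝 z₀, ‖MvPolynomial.eval z (p β)‖ < η ∧
      ∀ j, ‖MvPolynomial.eval z (p (γ j))‖ < ‖y (γ j)‖ + 1 ∧
        ‖MvPolynomial.eval z (p (φ (s j)))‖ < ε := by
    have hc : ∀ d : D, Tendsto (fun z => ‖MvPolynomial.eval z (p d)‖) (𝓝 z₀) (𝓝 ‖y d‖) := fun d => by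
      rw [hev y d]
      exact ((MvPolynomial.continuous_eval (p d)).tendsto z₀).norm
    refine ((hc β).eventually_lt_const (by rw [hy β hβ, norm_zero]; exact hη0)).and
      (eventually_all.2 fun j => ((hc (γ j)).eventually_lt_const (lt_add_one _)).and
        ((hc (φ (s j))).eventually_lt_const ?_))
    rw [hy _ (hsγ j ▸ Ideal.mul_mem_left _ _ hgQ), norm_zero]
    exact hε
  obtain ⟨z, hz, ψ, hψ, hψz⟩ := mem_closure_iff_nhds.1 hcl _ hnhds
  obtain rfl : z = fun l => ψ (π (MvPolynomial.X l)) := funext fun l => (hψz l).symm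
  simp only [Set.mem_setOf_eq, ← hev] at hz
  obtain ⟨hz1, hz2⟩ := hz
  rw [map_mul, map_mul, mul_ne_zero_iff] at hψ
  have hnorm : ‖fun j => ψ.comp φ (s j)‖ < ε := (pi_norm_lt_iff hε).2 fun j => (hz2 j).2
  have hle : ‖fun j => ψ.comp φ (s j)‖ ≤ M * ‖ψ (φ (s i))‖ := by
    refine (pi_norm_le_iff_of_nonneg (mul_nonneg hM0 (norm_nonneg _))).2 fun j => ?_
    rw [AlgHom.comp_apply, hsγ j, map_mul, norm_mul]
    refine mul_le_mul_of_nonneg_right ((hz2 j).1.le.trans ?_) (norm_nonneg _)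
    exact le_add_of_nonneg_of_le zero_le_one
      (Finset.single_le_sum (f := fun j => ‖y (γ j)‖ + 1) (fun j _ => hpos1 j)
        (Finset.mem_univ j))
  have h1 := hbound (ψ.comp φ) hnorm
  have h2 : ‖ψ (φ a)‖ ≤ |C| * (M * ‖ψ (φ (s i))‖) ^ k :=
    h1.trans (mul_le_mul (le_abs_self C) (pow_le_pow_left₀ (norm_nonneg _) hle k)
      (pow_nonneg (norm_nonneg _) k) (abs_nonneg C))
  have h3 : ‖ψ (φ a)‖ * ‖ψ β‖ = ‖ψ (φ (s i))‖ ^ k := by
    rw [← norm_mul, ← map_mul, hab, map_pow, norm_pow]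
  have hpos : 0 < ‖ψ (φ (s i))‖ ^ k := pow_pos (norm_pos_iff.2 hψ.1) k
  have h4 : ‖ψ (φ (s i))‖ ^ k ≤ |C| * M ^ k * η * ‖ψ (φ (s i))‖ ^ k := by
    calc ‖ψ (φ (s i))‖ ^ k = ‖ψ (φ a)‖ * ‖ψ β‖ := h3.symm
      _ ≤ |C| * (M * ‖ψ (φ (s i))‖) ^ k * η :=
          mul_le_mul h2 hz1.le (norm_nonneg _)
            (mul_nonneg (abs_nonneg C) (pow_nonneg (mul_nonneg hM0 (norm_nonneg _)) k))
      _ = |C| * M ^ k * η * ‖ψ (φ (s i))‖ ^ k := by rw [mul_pow]; ring
  have h5 : |C| * M ^ k * η < 1 := by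
    rw [hη, mul_one_div, div_lt_one hden]; exact lt_add_one _
  nlinarith


/-- In a chart of the blowing up: `t a / g^k` lies in every valuation ring containing the chart. -/
theorem exists_mem_valuation {A : Type} [CommRing A] [IsDomain A] [Algebra ℂ A] {n : ℕ}
    (s : Fin n → A) (x : A →ₐ[ℂ] ℂ)
    (_hgen : ∀ r : A, r - algebraMap ℂ A (x r) ∈ Ideal.span (Set.range s))
    (hfg : Algebra.FiniteType ℂ A) {a : A} {k : ℕ} (hb : Bound s a k) (i : Fin n) (hi : s i ≠ 0) :
    ∃ t : A, x t ≠ 0 ∧ ∀ V : ValuationSubring (FractionRing A),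
      (∀ r : A, algebraMap A (FractionRing A) r ∈ V) →
      (∀ j, algebraMap A (FractionRing A) (s j) / algebraMap A (FractionRing A) (s i) ∈ V) →
      algebraMap A (FractionRing A) (t * a) / algebraMap A (FractionRing A) (s i) ^ k ∈ V := by
  classical
  by_cases ha : a = 0
  · exact ⟨1, by simp, fun V _ _ => by simp [ha, zero_mem]⟩
  set L := FractionRing A
  set ι := algebraMap A L with hι
  have hinj : Function.Injective ι := IsFractionRing.injective A L
  have hg : ι (s i) ≠ 0 := fun h => hi (hinj (h.trans (map_zero ι).symm))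
  have ha' : ι a ≠ 0 := fun h => ha (hinj (h.trans (map_zero ι).symm))
  obtain ⟨G, hG⟩ := hfg.out
  set b' : L := ι (s i) ^ k / ι a with hb'
  set gens : Finset L := G.image ι ∪ Finset.univ.image (fun j => ι (s j) / ι (s i)) ∪ {b'}
  let D := Algebra.adjoin ℂ (gens : Set L)
  have hιD : ∀ r : A, ι r ∈ D := fun r => by
    have hle : Algebra.adjoin ℂ (G : Set A) ≤ D.comap (IsScalarTower.toAlgHom ℂ A L) :=
      Algebra.adjoin_le fun g hg => Algebra.subset_adjoin (by
        simp only [gens, Finset.coe_union, Finset.coe_image, Set.mem_union]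
        exact Or.inl (Or.inl ⟨g, hg, rfl⟩))
    rw [hG] at hle
    exact hle (Algebra.mem_top (x := r))
  have hqD : ∀ j, ι (s j) / ι (s i) ∈ D := fun j => Algebra.subset_adjoin (by simp [gens])
  have hbD : b' ∈ D := Algebra.subset_adjoin (by simp [gens])
  let φ : A →ₐ[ℂ] D := (IsScalarTower.toAlgHom ℂ A L).codRestrict D hιD
  let β : D := ⟨b', hbD⟩
  let S : Submonoid D := (Submonoid.map φ.toRingHom.toMonoidHom
    (Submonoid.comap x.toRingHom.toMonoidHom (nonZeroDivisors ℂ)))
  by_cases hdis : Disjoint ((Ideal.span {β} : Ideal D) : Set D) (S : Set D)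
  swap
  · obtain ⟨d, hd, t, ht, rfl⟩ := Set.not_disjoint_iff.1 hdis
    obtain ⟨e, he⟩ := Ideal.mem_span_singleton'.1 hd
    have ht0 : x t ≠ 0 := nonZeroDivisors.ne_zero ht
    refine ⟨t, ht0, fun V hA hq => ?_⟩
    have he' : (e : L) * b' = ι t := congrArg Subtype.val he
    have heq : ι (t * a) / ι (s i) ^ k = (e : L) := by
      rw [map_mul, ← he', hb', mul_assoc, div_mul_cancel₀ _ ha', mul_div_assoc,
        div_self (pow_ne_zero _ hg), mul_one]
    rcases V.mem_or_inv_mem b' with h | h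
    · rw [heq]
      have hDV : (D : Set L) ⊆ V := fun z hz => by
        induction hz using Algebra.adjoin_induction with
        | mem z hz =>
          simp only [gens, Finset.coe_union, Finset.coe_image, Finset.coe_singleton, Set.mem_union,
            Set.mem_singleton_iff] at hz
          rcases hz with (⟨g, -, rfl⟩ | ⟨j, -, rfl⟩) | rfl
          exacts [hA g, hq j, h]
        | algebraMap c => rw [IsScalarTower.algebraMap_apply ℂ A L]; exact hA _
        | add x y _ _ hx hy => exact add_mem hx hy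
        | mul x y _ _ hx hy => exact mul_mem hx hy
      exact hDV e.2
    · have : ι (t * a) / ι (s i) ^ k = ι t * b'⁻¹ := by
        rw [map_mul, hb', inv_div, mul_div_assoc]
      rw [this]
      exact mul_mem (hA t) h
  exfalso
  obtain ⟨Q, hQ, hβQ, hQS⟩ := Ideal.exists_le_prime_disjoint _ _ hdis
  let γ : Fin n → D := fun j => ⟨ι (s j) / ι (s i), hqD j⟩
  have hab : φ a * β = φ (s i) ^ k := Subtype.ext (by
    change ι a * b' = ι (s i) ^ k
    rw [hb', mul_div_cancel₀ _ ha'])
  have hsγ : ∀ j, φ (s j) = γ j * φ (s i) := fun j => Subtype.ext (by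
    change ι (s j) = ι (s j) / ι (s i) * ι (s i)
    rw [div_mul_cancel₀ _ hg])
  have hne : φ (s i * a) ≠ 0 := fun h => mul_ne_zero hi ha (hinj (by
    rw [map_zero]; exact congrArg Subtype.val h))
  have hβ : β ∈ Q := hβQ (Ideal.subset_span rfl)
  have hgQ : φ (s i) ∈ Q := hQ.mem_of_pow_mem k (hab ▸ Ideal.mul_mem_left _ _ hβ)
  haveI : Algebra.FiniteType ℂ D := ⟨(Subalgebra.fg_top D).2 ⟨gens, rfl⟩⟩
  exact no_prime s i φ β γ hab hsγ hne hb Q hβ hgQ

/-- Valuations of the polynomial ring over a domain see `t a X^k` in the Rees algebra. -/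
theorem exists_mem_valuation_polynomial {A : Type} [CommRing A] [IsDomain A] [Algebra ℂ A]
    (hfg : Algebra.FiniteType ℂ A) {n : ℕ} (s : Fin n → A) (x : A →ₐ[ℂ] ℂ)
    (hx : ∀ j, x (s j) = 0)
    (hgen : ∀ r : A, r - algebraMap ℂ A (x r) ∈ Ideal.span (Set.range s)) {a : A} {k : ℕ}
    (hb : Bound s a k) :
    ∃ t : A, x t ≠ 0 ∧ ∀ V : ValuationSubring (FractionRing A[X]),
      (∀ r : A, algebraMap A[X] _ (C r) ∈ V) →
      (∀ j, algebraMap A[X] _ (C (s j) * X) ∈ V) →
      algebraMap A[X] (FractionRing A[X]) (C (t * a) * X ^ k) ∈ V := by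
  classical
  by_cases hall : ∀ j, s j = 0
  · rcases Nat.eq_zero_or_pos k with rfl | hk
    · exact ⟨1, by simp, fun V hV _ => by simpa using hV a⟩
    refine ⟨1, by simp, fun V _ _ => ?_⟩
    have h0 : ∀ r : A, r = algebraMap ℂ A (x r) := fun r => by
      have := hgen r
      have h' : Ideal.span (Set.range s) ≤ ⊥ := Ideal.span_le.2 (by rintro _ ⟨j, rfl⟩; simp [hall j])
      exact sub_eq_zero.1 ((Submodule.mem_bot A).1 (h' this))
    obtain ⟨C', ε, hε, hb⟩ := hb
    have hn : (fun i => x (s i)) = 0 := funext hx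
    have := hb x (by rw [hn, norm_zero]; exact hε)
    rw [hn, norm_zero, zero_pow hk.ne', mul_zero, norm_le_zero_iff] at this
    rw [h0 a, this]
    simp [zero_mem]
  push Not at hall
  have : ∀ i : Fin n, ∃ t : A, x t ≠ 0 ∧ (s i ≠ 0 → ∀ V : ValuationSubring (FractionRing A),
      (∀ r : A, algebraMap A (FractionRing A) r ∈ V) →
      (∀ j, algebraMap A (FractionRing A) (s j) / algebraMap A (FractionRing A) (s i) ∈ V) →
      algebraMap A (FractionRing A) (t * a) / algebraMap A (FractionRing A) (s i) ^ k ∈ V) := by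
    intro i
    by_cases hi : s i = 0
    · exact ⟨1, by simp, fun h => absurd hi h⟩
    · obtain ⟨t, ht, h⟩ := exists_mem_valuation s x hgen hfg hb i hi
      exact ⟨t, ht, fun _ => h⟩
  choose t ht htV using this
  refine ⟨∏ i, t i, by rw [map_prod]; exact Finset.prod_ne_zero_iff.2 fun i _ => ht i,
    fun V hA hX => ?_⟩
  have hinj : Function.Injective ((algebraMap A[X] (FractionRing A[X])).comp C) :=
    (IsFractionRing.injective A[X] _).comp C_injective
  let ι : FractionRing A →+* FractionRing A[X] := IsFractionRing.lift hinj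
  have hι : ∀ r : A, ι (algebraMap A (FractionRing A) r) = algebraMap A[X] _ (C r) := fun r =>
    IsFractionRing.lift_algebraMap hinj r
  obtain ⟨j₀, hj₀⟩ := hall
  obtain ⟨i, -, hmax⟩ := Finset.exists_max_image Finset.univ
    (fun j => V.valuation (algebraMap A[X] _ (C (s j)))) ⟨j₀, Finset.mem_univ _⟩
  have hne : s i ≠ 0 := fun h => by
    have h' := hmax j₀ (Finset.mem_univ _)
    rw [h, map_zero, map_zero, map_zero] at h'
    have := le_antisymm h' zero_le'
    rw [map_eq_zero] at this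
    exact hj₀ (C_injective ((IsFractionRing.injective A[X] _ (this.trans (map_zero _).symm)).trans
      (map_zero C).symm))
  have hV' := htV i hne (V.comap ι) (fun r => by rw [ValuationSubring.mem_comap, hι]; exact hA r)
    fun j => by
      have hpos : 0 < V.valuation (algebraMap A[X] _ (C (s i))) := by
        rw [zero_lt_iff, Ne, map_eq_zero]
        exact fun h => hne (hinj (h.trans (map_zero _).symm))
      rw [ValuationSubring.mem_comap, map_div₀, hι, hι, ← V.valuation_le_one_iff, map_div₀,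
        div_le_one₀ hpos]
      exact hmax j (Finset.mem_univ _)
  rw [ValuationSubring.mem_comap, map_div₀, map_pow, hι, hι] at hV'
  have hprod : ∏ l, t l = t i * ∏ l ∈ Finset.univ.erase i, t l :=
    (Finset.mul_prod_erase _ _ (Finset.mem_univ i)).symm
  have hgi : algebraMap A[X] (FractionRing A[X]) (C (s i)) ≠ 0 := fun h =>
    hne (hinj (h.trans (map_zero _).symm))
  have : algebraMap A[X] (FractionRing A[X]) (C ((∏ l, t l) * a) * X ^ k) =
      algebraMap A[X] _ (C (∏ l ∈ Finset.univ.erase i, t l)) *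
        (algebraMap A[X] _ (C (t i * a)) / algebraMap A[X] _ (C (s i)) ^ k) *
          algebraMap A[X] _ (C (s i) * X) ^ k := by
    rw [hprod]
    simp only [map_mul, map_pow]
    field_simp
    try ring
  rw [this]
  exact mul_mem (mul_mem (hA _) hV') (pow_mem (hX i) k)

theorem isNagata_field (k : Type) [Field k] : CAlg.IsNagata k := by
  refine ⟨inferInstance, fun p hp => ?_⟩
  haveI : p.IsMaximal := Ideal.IsPrime.isMaximal' hp
  intro L _ _ _ _ _
  letI := Ideal.Quotient.field p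
  haveI : Module.Finite (k ⧸ p) (FractionRing (k ⧸ p)) :=
    Module.Finite.of_surjective (Algebra.linearMap (k ⧸ p) (FractionRing (k ⧸ p)))
      (IsFractionRing.surjective_iff_isField.2 (Field.toIsField _))
  haveI : Module.Finite (k ⧸ p) L := Module.Finite.trans (FractionRing (k ⧸ p)) L
  exact Module.Finite.of_injective (Subalgebra.val _).toLinearMap Subtype.val_injective

theorem isReduced_polynomial {A : Type} [CommRing A] [IsReduced A] : IsReduced A[X] :=
  ⟨fun f hf => Polynomial.ext fun i => by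
    rw [coeff_zero]; exact (Polynomial.isNilpotent_iff.1 hf i).eq_zero⟩

/-- An element is integral if it is so modulo every minimal prime (reduced case). -/
theorem isIntegral_of_minimalPrimes {A : Type} [CommRing A] [IsReduced A] [IsNoetherianRing A]
    {R : Type} [CommRing R] (f : R →+* A[X]) (z : A[X])
    (h : ∀ P : Ideal A, P ∈ minimalPrimes A →
      ∃ F : R[X], F.Monic ∧ (F.eval₂ f z).map (Ideal.Quotient.mk P) = 0) :
    f.IsIntegralElem z := by
  classical
  choose F hF hz using h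
  let s := (minimalPrimes.finite_of_isNoetherianRing A).toFinset
  refine ⟨∏ P : s, F P.1 ((Set.Finite.mem_toFinset _).1 P.2), monic_prod_of_monic _ _ fun P _ => hF _ _, ?_⟩
  rw [eval₂_finsetProd]
  ext d
  rw [coeff_zero]
  have hrad : ∀ P ∈ minimalPrimes A, (∏ P : s, (F P.1 ((Set.Finite.mem_toFinset _).1 P.2)).eval₂ f z).coeff d ∈ P := by
    intro P hP
    rw [← Ideal.Quotient.eq_zero_iff_mem, ← coeff_map, Polynomial.map_prod,
      Finset.prod_eq_zero (Finset.mem_univ (⟨P, (Set.Finite.mem_toFinset _).2 hP⟩ : s)) (hz P hP),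
      coeff_zero]
  have : (∏ P : s, (F P.1 ((Set.Finite.mem_toFinset _).1 P.2)).eval₂ f z).coeff d ∈
      sInf (minimalPrimes A) := Ideal.mem_sInf.2 fun {P} hP => hrad P hP
  rw [Ideal.sInf_minimalPrimes, Ideal.radical_bot_of_isReduced] at this
  exact this

/-- Analytic order controls adic order. -/
theorem exists_rees_bound {A : Type} [CommRing A] [IsReduced A] [Algebra ℂ A]
    (hfg : Algebra.FiniteType ℂ A) {n : ℕ} (s : Fin n → A) (x : A →ₐ[ℂ] ℂ) (hx : ∀ j, x (s j) = 0)
    (hgen : ∀ r : A, r - algebraMap ℂ A (x r) ∈ Ideal.span (Set.range s)) :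
    ∃ c : ℕ, ∀ (k : ℕ) (a : A), Bound s a k →
      ∃ t : A, x t ≠ 0 ∧ t * a ∈ RingHom.ker x ^ (k - c) := by
  classical
  haveI : IsNoetherianRing A := Algebra.FiniteType.isNoetherianRing ℂ A
  set m := RingHom.ker x
  haveI : Algebra.FiniteType ℂ (reesAlgebra m) := Algebra.FiniteType.trans (S := A) hfg inferInstance
  haveI : Algebra.FiniteType (reesAlgebra m) A[X] :=
    Algebra.FiniteType.of_restrictScalars_finiteType A (reesAlgebra m) A[X]
  have hT : CAlg.IsNagata (reesAlgebra m) :=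
    Groth.Agent.CAlgH.isNagata_of_finiteType (isNagata_field ℂ) _
  haveI : IsReduced A[X] := isReduced_polynomial
  haveI := Groth.Agent.CAlgH.finite_ic_of_isNagata hT A[X]
  obtain ⟨G, hG⟩ := Module.Finite.fg_top (R := reesAlgebra m)
    (M := integralClosure (reesAlgebra m) A[X])
  refine ⟨G.sup fun b => (b : A[X]).natDegree, fun k a hb => ?_⟩
  have hP : ∀ P : Ideal A, P ∈ minimalPrimes A → ∃ t : A, x t ≠ 0 ∧ ∃ F : (reesAlgebra m)[X],
      F.Monic ∧ (F.eval₂ (algebraMap (reesAlgebra m) A[X]) (C (t * a) * X ^ k)).map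
        (Ideal.Quotient.mk P) = 0 := by
    intro P hP
    haveI : P.IsPrime := hP.1.1
    by_cases hle : P ≤ m
    swap
    · obtain ⟨t, htP, htm⟩ := SetLike.not_le_iff_exists.1 hle
      refine ⟨t, htm, X, monic_X, ?_⟩
      simp [Ideal.Quotient.eq_zero_iff_mem.2 htP]
    let π := Ideal.Quotient.mkₐ ℂ P
    let x' : A ⧸ P →ₐ[ℂ] ℂ := Ideal.Quotient.liftₐ P x fun r hr => hle hr
    have hgen' : ∀ r : A ⧸ P, r - algebraMap ℂ (A ⧸ P) (x' r) ∈
        Ideal.span (Set.range fun j => π (s j)) := by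
      intro r
      obtain ⟨r, rfl⟩ := Ideal.Quotient.mk_surjective r
      have := Ideal.mem_map_of_mem π (hgen r)
      rw [Ideal.map_span, ← Set.range_comp, map_sub, AlgHom.commutes] at this
      exact this
    obtain ⟨t', ht', hV⟩ := exists_mem_valuation_polynomial
      (Algebra.FiniteType.of_surjective π Ideal.Quotient.mk_surjective) (fun j => π (s j)) x'
      (fun j => hx j) hgen' (a := π a) (k := k) (hb.map π)
    obtain ⟨t, rfl⟩ := Ideal.Quotient.mk_surjective t'
    refine ⟨t, ht', ?_⟩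
    let K := FractionRing (A ⧸ P)[X]
    let h : (reesAlgebra m) →+* K := (algebraMap (A ⧸ P)[X] K).comp
      ((mapRingHom (Ideal.Quotient.mk P)).comp (algebraMap (reesAlgebra m) A[X]))
    have hh : ∀ u : reesAlgebra m, h u =
        algebraMap (A ⧸ P)[X] K ((u : A[X]).map (Ideal.Quotient.mk P)) := fun _ => rfl
    set z : K := algebraMap (A ⧸ P)[X] K (C (π t * π a) * X ^ k)
    have hz : z ∈ (integralClosure (Subring.closure (h.range : Set K)) K).toSubring := by
      rw [← iInf_valuationSubring_superset, Subring.mem_iInf]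
      rintro ⟨V, hsub⟩
      refine hV V (fun r => ?_) (fun j => ?_)
      · obtain ⟨r, rfl⟩ := Ideal.Quotient.mk_surjective r
        exact hsub ⟨algebraMap A (reesAlgebra m) r, (hh _).trans (by simp [Polynomial.algebraMap_eq]; rfl)⟩
      · refine hsub ⟨⟨C (s j) * X, fun d => ?_⟩, (hh _).trans (by simp [π]; rfl)⟩
        rw [coeff_C_mul_X]
        split_ifs with hd
        · subst hd; rw [pow_one]; exact hx j
        · exact zero_mem _
    obtain ⟨F, hF, hFz⟩ : IsIntegral (Subring.closure (h.range : Set K)) z := hz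
    have hlifts : F.map (algebraMap _ K) ∈ Polynomial.lifts h := by
      rw [lifts_iff_coeff_lifts]
      intro d
      rw [coeff_map]
      have := (F.coeff d).2
      rw [SetLike.mem_coe.symm] at this
      obtain ⟨u, hu⟩ : ((F.coeff d : _) : K) ∈ h.range :=
        (Subring.closure_eq h.range).le this
      exact ⟨u, hu⟩
    obtain ⟨F₀, hF₀, -, hF₀m⟩ := lifts_and_degree_eq_and_monic hlifts (hF.map _)
    refine ⟨F₀, hF₀m, IsFractionRing.injective (A ⧸ P)[X] K ?_⟩
    rw [map_zero, ← coe_mapRingHom, hom_eval₂, hom_eval₂]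
    change eval₂ h _ F₀ = 0
    rw [eval₂_eq_eval_map, hF₀, eval_map]
    convert! hFz using 2
    simp [z, π]
  choose! t ht F hF hz using hP
  let M := (minimalPrimes.finite_of_isNoetherianRing A).toFinset
  refine ⟨∏ P ∈ M, t P, by
    rw [map_prod]
    exact Finset.prod_ne_zero_iff.2 fun P hP => ht P ((Set.Finite.mem_toFinset _).1 hP), ?_⟩
  set T := ∏ P ∈ M, t P
  have hint : IsIntegral (reesAlgebra m) (C (T * a) * X ^ k : A[X]) := by
    refine isIntegral_of_minimalPrimes _ _ fun P hP => ?_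
    obtain ⟨u, hu⟩ : t P ∣ T := Finset.dvd_prod_of_mem t ((Set.Finite.mem_toFinset _).2 hP)
    refine ⟨(F P).scaleRoots (algebraMap A (reesAlgebra m) u),
      (monic_scaleRoots_iff _).2 (hF P hP), ?_⟩
    have hmul : (C (T * a) * X ^ k : A[X]) =
        algebraMap (reesAlgebra m) A[X] (algebraMap A (reesAlgebra m) u) *
          (C (t P * a) * X ^ k) := by
      rw [← IsScalarTower.algebraMap_apply, Polynomial.algebraMap_eq, hu]
      simp only [map_mul]; ring
    rw [hmul, scaleRoots_eval₂_mul, Polynomial.map_mul, hz P hP, mul_zero]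
  have hmem : (⟨_, hint⟩ : integralClosure (reesAlgebra m) A[X]) ∈ (⊤ : Submodule (reesAlgebra m) _) :=
    trivial
  rw [← hG, Submodule.mem_span_finset] at hmem
  obtain ⟨τ, -, hτ⟩ := hmem
  have hτ' : ∑ b ∈ G, (τ b : A[X]) * (b : A[X]) = C (T * a) * X ^ k := by
    have := congrArg Subtype.val hτ
    simpa [Algebra.smul_def] using this
  have hc := congrArg (fun p : A[X] => p.coeff k) hτ'
  simp only [coeff_C_mul, coeff_X_pow_self, mul_one, finsetSum_coeff] at hc
  rw [← hc]
  refine Submodule.sum_mem _ fun b hb => ?_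
  rw [coeff_mul]
  refine Submodule.sum_mem _ fun ij hij => ?_
  rw [Finset.HasAntidiagonal.mem_antidiagonal] at hij
  rcases le_or_gt ij.2 (G.sup fun b => (b : A[X]).natDegree) with h2 | h2
  · exact Ideal.mul_mem_right _ _ (Ideal.pow_le_pow_right (by omega) ((τ b).2 ij.1))
  · rw [coeff_eq_zero_of_natDegree_lt (p := (b : A[X])) ((Finset.le_sup (f := fun b : integralClosure (reesAlgebra m) A[X] => (b : A[X]).natDegree) hb).trans_lt h2),
      mul_zero]
    exact zero_mem _

end AnStalkH3
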