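import Groth.Agent.AnStalkH3.Fibres

/-!
# The square of stalk maps of a morphism
-/

open AlgebraicGeometry CategoryTheory TopologicalSpace Topology IsLocalRing

noncomputable section

set_option backward.isDefEq.respectTransparency.types false

namespace AnStalkH3

open An

variable {X Y : Scheme.{0}} [X.Over SC] [Y.Over SC] (f : X ⟶ Y) [f.IsOver SC]

/-- The analytic stalk map. -/
abbrev anStalkMap (x : Pts X) : AnStalk (Pts.map f x) →+* AnStalk x :=
  (PresheafedSpace.Hom.stalkMap (anMap f) x).hom

/-- The algebraic stalk map at a ℂ-point, with source the stalk at the image ℂ-point. -/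
abbrev algStalkMap (x : Pts X) : Y.presheaf.stalk (Pts.map f x).pt →+* X.presheaf.stalk x.pt :=
  (f.stalkMap x.pt).hom

/-- The square commutes. -/
theorem square (x : Pts X) :
    (φ x).comp (algStalkMap f x) = (anStalkMap f x).comp (φ (Pts.map f x)) := by
  refine RingHom.ext fun a => ?_
  obtain ⟨U, hU, s, rfl⟩ := Y.presheaf.exists_germ_eq a
  have hU' : f x.pt ∈ U := hU
  have e1 := congrArg (fun m => (ConcreteCategory.hom m) s) (Scheme.Hom.germ_stalkMap f U x.pt hU')
  have e2 := congrArg (fun m => (ConcreteCategory.hom m) (f.app U s))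
    (PresheafedSpace.stalkMap_germ (anToScheme X) (f ⁻¹ᵁ U) x hU')
  have e3 := congrArg (fun m => (ConcreteCategory.hom m) s)
    (PresheafedSpace.stalkMap_germ (anToScheme Y) U (Pts.map f x) hU)
  have e4 := congrArg (fun m => (ConcreteCategory.hom m) (toHolApp U s))
    (PresheafedSpace.stalkMap_germ (anMap f) _ x (show (Pts.map f x) ∈ _ from hU))
  refine ((congrArg (φ x) e1).trans e2).trans (Eq.trans ?_ ((congrArg (anStalkMap f x) e3).trans e4).symm)
  exact germAt_ext _ _ Filter.univ_mem fun y hy hy' _ => (Pts.ev_map f y U hy' s).symm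

variable [LocallyOfFiniteType (X ↘ SC)] [LocallyOfFiniteType (Y ↘ SC)]

theorem isLocalHom_anStalkMap (x : Pts X) : IsLocalHom (anStalkMap f x) := by
  refine ((IsLocalRing.local_hom_TFAE (anStalkMap f x)).out 0 2).2 ?_
  rw [← map_maximalIdeal (x := Pts.map f x), Ideal.map_map, ← square f x, ← Ideal.map_map,
    ← map_maximalIdeal (x := x)]
  have h : IsLocalHom (algStalkMap f x) := inferInstanceAs <| IsLocalHom (f.stalkMap x.pt).hom
  exact Ideal.map_mono (((IsLocalRing.local_hom_TFAE (algStalkMap f x)).out 0 2).1 h)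

end AnStalkH3
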