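import Groth.Agent.AnStalkH3.Noetherian
import Mathlib.RingTheory.MvPolynomial.Basic
import Mathlib.Algebra.MvPolynomial.CommRing

/-!
# Polynomials inside the ring of germs, Taylor approximation, growth bounds
-/

noncomputable section

open Metric Set Filter Topology
open scoped Topology

namespace AnStalkH3

/-- Polynomial germs. -/
def polyGerm (n : ℕ) : MvPolynomial (Fin n) ℂ →+* O (Fin n → ℂ) :=
  MvPolynomial.eval₂Hom constHom fun i => lin (ContinuousLinearMap.proj i)

theorem polyGerm_eq (n : ℕ) (p : MvPolynomial (Fin n) ℂ) :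
    ∃ h, polyGerm n p = mk (fun z => MvPolynomial.eval z p) h := by
  induction p using MvPolynomial.induction_on with
  | C c =>
    exact ⟨by simpa using holAt_of_differentiable (differentiable_const c),
      Subtype.ext (by simp [polyGerm]; rfl)⟩
  | add p q hp hq =>
    obtain ⟨hp', e1⟩ := hp
    obtain ⟨hq', e2⟩ := hq
    refine ⟨(show (fun z => MvPolynomial.eval z (p + q)) =
      (fun z => MvPolynomial.eval z p) + fun z => MvPolynomial.eval z q by ext z; simp) ▸ hp'.add hq', ?_⟩
    rw [map_add, e1, e2, mk_add]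
    exact Subtype.ext (Germ.coe_eq.2 (Eventually.of_forall fun z => by simp))
  | mul_X p i hp =>
    obtain ⟨hp', e1⟩ := hp
    refine ⟨(show (fun z => MvPolynomial.eval z (p * MvPolynomial.X i)) =
      (fun z => MvPolynomial.eval z p) * fun z => z i by ext z; simp) ▸
        hp'.mul (holAt_of_differentiable (differentiable_apply i)), ?_⟩
    rw [map_mul, e1, show polyGerm n (MvPolynomial.X i) = mk (fun z : Fin n → ℂ => z i)
      (holAt_of_differentiable (differentiable_apply i)) by simp [polyGerm, lin]; rfl, mk_mul]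
    exact Subtype.ext (Germ.coe_eq.2 (Eventually.of_forall fun z => by simp))

theorem maximalIdeal_eq_coords (n : ℕ) :
    IsLocalRing.maximalIdeal (O (Fin n → ℂ)) =
      Ideal.span (Set.range fun i => polyGerm n (MvPolynomial.X i)) := by
  refine le_antisymm ?_ ?_
  · rw [maximalIdeal_eq, Ideal.span_le]
    rintro _ ⟨l, rfl⟩
    have hl : lin l = ∑ i, constHom (l (Pi.single i 1)) * polyGerm n (MvPolynomial.X i) := by
      simp only [polyGerm, MvPolynomial.eval₂Hom_X']
      refine Subtype.ext ?_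
      simp only [AddSubmonoidClass.coe_finsetSum, Subring.coe_mul]
      change Germ.coeRingHom (𝓝 (0 : Fin n → ℂ)) (⇑l) = ∑ i,
        Germ.coeRingHom (𝓝 0) (fun _ => l (Pi.single i 1)) *
          Germ.coeRingHom (𝓝 0) (fun z : Fin n → ℂ => z i)
      simp only [← map_mul, ← map_sum]
      congr 1
      ext z
      conv_lhs => rw [show z = ∑ i, z i • (Pi.single i 1 : Fin n → ℂ) from pi_eq_sum_univ' z]
      simp [map_sum, mul_comm]
    rw [SetLike.mem_coe, hl]
    exact Submodule.sum_mem _ fun i _ => Ideal.mul_mem_left _ _ (Ideal.subset_span ⟨i, rfl⟩)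
  · rw [Ideal.span_le]
    rintro _ ⟨i, rfl⟩
    rw [SetLike.mem_coe, mem_maximalIdeal]
    simp [polyGerm, lin]

/-- Taylor approximation by polynomials. -/
theorem exists_polyGerm_sub_mem (n k : ℕ) (φ : O (Fin n → ℂ)) :
    ∃ p, φ - polyGerm n p ∈ IsLocalRing.maximalIdeal (O (Fin n → ℂ)) ^ k := by
  induction k generalizing φ with
  | zero => exact ⟨0, by simp⟩
  | succ k ih =>
    have h0 : φ - constHom (eval0 _ φ) ∈ IsLocalRing.maximalIdeal (O (Fin n → ℂ)) := by
      rw [mem_maximalIdeal, map_sub]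
      exact sub_self _
    have h0' := h0
    rw [maximalIdeal_eq_coords, Ideal.mem_span_range_iff_exists_fun] at h0'
    obtain ⟨c, hc⟩ := h0'
    choose q hq using fun i => ih (c i)
    refine ⟨MvPolynomial.C (eval0 _ φ) + ∑ i, q i * MvPolynomial.X i, ?_⟩
    have hC : polyGerm n (MvPolynomial.C (eval0 _ φ)) = constHom (eval0 _ φ) := by simp [polyGerm]
    rw [map_add, map_sum, hC, sub_add_eq_sub_sub, ← hc, ← Finset.sum_sub_distrib, pow_succ]
    refine Submodule.sum_mem _ fun i _ => ?_
    rw [map_mul, ← sub_mul]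
    refine Ideal.mul_mem_mul (hq i) ?_
    rw [maximalIdeal_eq_coords]
    exact Ideal.subset_span ⟨i, rfl⟩

/-- Germs bounded by `C ‖z‖ ^ k`. -/
def boundIdeal (E : Type) [NormedAddCommGroup E] [NormedSpace ℂ E] (k : ℕ) : Ideal (O E) where
  carrier := {φ | ∃ (f : E → ℂ) (hf : HolAt f) (C : ℝ), φ = mk f hf ∧ ∀ᶠ z in 𝓝 0, ‖f z‖ ≤ C * ‖z‖ ^ k}
  zero_mem' := ⟨0, holAt_of_differentiable (differentiable_const _), 0, rfl,
    Eventually.of_forall fun z => by simp⟩
  add_mem' := by
    rintro _ _ ⟨f, hf, C, rfl, h⟩ ⟨g, hg, C', rfl, h'⟩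
    refine ⟨f + g, hf.add hg, C + C', rfl, ?_⟩
    filter_upwards [h, h'] with z h1 h2
    rw [add_mul]
    exact (norm_add_le _ _).trans (add_le_add h1 h2)
  smul_mem' := by
    rintro a _ ⟨f, hf, C, rfl, h⟩
    obtain ⟨g, hg, rfl⟩ := exists_rep a
    refine ⟨g * f, hg.mul hf, (‖g 0‖ + 1) * C, rfl, ?_⟩
    filter_upwards [h, hg.continuousAt.norm.eventually_lt_const (lt_add_one _)] with z h1 h2
    rw [Pi.mul_apply, norm_mul, mul_assoc]
    exact mul_le_mul h2.le h1 (norm_nonneg _) (by positivity)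

theorem maximalIdeal_pow_le_bound {E : Type} [NormedAddCommGroup E] [NormedSpace ℂ E]
    [FiniteDimensional ℂ E] (k : ℕ) : IsLocalRing.maximalIdeal (O E) ^ k ≤ boundIdeal E k := by
  induction k with
  | zero =>
    intro φ _
    obtain ⟨f, hf, rfl⟩ := exists_rep φ
    refine ⟨f, hf, ‖f 0‖ + 1, rfl, ?_⟩
    filter_upwards [hf.continuousAt.norm.eventually_lt_const (lt_add_one _)] with z hz
    simpa using hz.le
  | succ k ih =>
    rw [pow_succ, maximalIdeal_eq, Ideal.mul_le]
    intro a ha b hb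
    rw [maximalIdeal_eq] at ih
    obtain ⟨f, hf, C, rfl, h⟩ := ih ha
    induction hb using Submodule.span_induction with
    | mem x hx =>
      obtain ⟨l, rfl⟩ := hx
      refine ⟨f * l, hf.mul (holAt_of_differentiable l.differentiable), C * ‖l‖, rfl, ?_⟩
      filter_upwards [h] with z hz
      rw [Pi.mul_apply, norm_mul, pow_succ]
      calc ‖f z‖ * ‖l z‖ ≤ (C * ‖z‖ ^ k) * (‖l‖ * ‖z‖) :=
            mul_le_mul hz (l.le_opNorm z) (norm_nonneg _) ((norm_nonneg _).trans hz)
        _ = C * ‖l‖ * (‖z‖ ^ k * ‖z‖) := by ring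
    | zero => simp
    | add x y _ _ hx hy => rw [mul_add]; exact add_mem hx hy
    | smul c x _ hx => rw [smul_eq_mul, mul_left_comm]; exact Ideal.mul_mem_left _ _ hx

end AnStalkH3
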