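import Groth.Agent.AnStalkH3.Chart
import Groth.Agent.AnStalkH3.Taylor
import Groth.Agent.AnStalkH3.ReesBound

/-!
# The stalk of the sheaf of holomorphic functions as a quotient of a germ ring
-/

open AlgebraicGeometry CategoryTheory TopologicalSpace Opposite Topology Filter

noncomputable section

set_option backward.isDefEq.respectTransparency.types false

namespace AnStalkH3

open An

variable {X : Scheme.{0}} [X.Over SC] {x : Pts X}

/-- The analytic stalk. -/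
abbrev AnStalk (x : Pts X) : CommRingCat.{0} := (anSpace X).presheaf.stalk x

/-- The comparison map of stalks. -/
abbrev φ (x : Pts X) : X.presheaf.stalk x.pt →+* AnStalk x :=
  (PresheafedSpace.Hom.stalkMap (anToScheme X) x).hom

/-- Germ of a holomorphic function. -/
def germAt (U : Opens (top X)) (hU : x ∈ U) (g : holSub U) : AnStalk x :=
  (anSpace X).presheaf.germ U x hU g

theorem germAt_ext {U V : Opens (top X)} (hU : x ∈ U) (hV : x ∈ V) {f : holSub U} {g : holSub V}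
    {N : Set (Pts X)} (hN : N ∈ 𝓝 x) (h : ∀ y (hy : y ∈ U) (hy' : y ∈ V), y ∈ N → f.1 ⟨y, hy⟩ = g.1 ⟨y, hy'⟩) :
    germAt U hU f = germAt V hV g := by
  obtain ⟨W₀, hW₀, hW₀o, hxW₀⟩ := _root_.mem_nhds_iff.1 hN
  refine TopCat.Presheaf.germ_ext (anSpace X).presheaf (⟨W₀, hW₀o⟩ ⊓ U ⊓ V) ⟨⟨hxW₀, hU⟩, hV⟩
    (homOfLE (inf_le_left.trans inf_le_right)) (homOfLE inf_le_right) ?_
  exact Subtype.ext (funext fun y => h y.1 y.2.1.2 y.2.2 (hW₀ y.2.1.1))

theorem eventually_of_germAt_eq {U V : Opens (top X)} {hU : x ∈ U} {hV : x ∈ V} {f : holSub U}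
    {g : holSub V} (h : germAt U hU f = germAt V hV g) :
    ∃ N ∈ 𝓝 x, ∀ y (hy : y ∈ U) (hy' : y ∈ V), y ∈ N → f.1 ⟨y, hy⟩ = g.1 ⟨y, hy'⟩ := by
  obtain ⟨W, hxW, iU, iV, hW⟩ := (anSpace X).presheaf.germ_eq x hU hV f g h
  exact ⟨SetLike.coe W, W.2.mem_nhds hxW, fun y hy hy' hyW =>
    congrFun (congrArg Subtype.val hW) ⟨y, hyW⟩⟩

theorem germAt_surjective (σ : AnStalk x) :
    ∃ (U : Opens (top X)) (hU : x ∈ U) (g : holSub U), germAt U hU g = σ :=
  (anSpace X).presheaf.exists_germ_eq σ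

namespace Chart

variable (D : Chart x)

/-- The ring of germs in the coordinates of the chart. -/
abbrev Coord : Type := Fin D.n → ℂ

/-- The coordinates of a point. -/
def co (y : Pts X) (hy : y.pt ∈ D.W) : D.Coord := fun i => y.ev D.W hy (D.s i)

theorem co_base : D.co x D.hx = 0 := funext D.hs0

/-- The points with small coordinates. -/
def U (r : ℝ) : Opens (top X) :=
  ⟨{y | ∃ hy : y.pt ∈ D.W, ‖D.co y hy‖ < r}, by
    have h := (Pts.isOpen_preimage_pt D.W).isOpenMap_subtype_val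
      {y : {y : Pts X // y.pt ∈ D.W} | ‖D.co y.1 y.2‖ < r}
      (isOpen_lt (continuous_pi D.continuous_coord).norm continuous_const)
    convert! h using 1
    ext y
    exact ⟨fun ⟨hy, h⟩ => ⟨⟨y, hy⟩, h, rfl⟩, fun ⟨⟨_, hy⟩, h, e⟩ => e ▸ ⟨hy, h⟩⟩⟩

theorem mem_U {r : ℝ} (hr : 0 < r) : x ∈ D.U r := ⟨D.hx, by rw [co_base, norm_zero]; exact hr⟩

theorem isChartFun {f : D.Coord → ℂ} {r : ℝ} (hf : DifferentiableOn ℂ f (Metric.ball 0 r)) :
    IsChartFun (D.U r) fun y => f (D.co y.1 y.2.1) :=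
  ⟨D.W, fun y => y.2.1, D.n, D.s, Metric.ball 0 r, f, Metric.isOpen_ball, hf,
    fun y => ⟨mem_ball_zero_iff.2 y.2.2, rfl⟩⟩

/-- A holomorphic function of the coordinates as a section. -/
def sec {f : D.Coord → ℂ} {r : ℝ} (hf : DifferentiableOn ℂ f (Metric.ball 0 r)) : holSub (D.U r) :=
  ⟨fun y => f (D.co y.1 y.2.1), holPred_of_chartAlg (Algebra.subset_adjoin (D.isChartFun hf))⟩

theorem coord_eventually {P : D.Coord → Prop} (h : ∀ᶠ z in 𝓝 0, P z) :
    ∃ N ∈ 𝓝 x, ∀ y ∈ N, ∀ hy : y.pt ∈ D.W, P (D.co y hy) := by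
  obtain ⟨δ, hδ, hsub⟩ := Metric.mem_nhds_iff.1 h
  exact ⟨SetLike.coe (D.U δ), (D.U δ).2.mem_nhds (D.mem_U hδ),
    fun y hy hyW => hsub (mem_ball_zero_iff.2 (by obtain ⟨_, h⟩ := hy; exact h))⟩

theorem exists_mkStalk (a : O D.Coord) :
    ∃ σ : AnStalk x, ∀ (f : D.Coord → ℂ) (r : ℝ) (hr : 0 < r)
      (hf : DifferentiableOn ℂ f (Metric.ball 0 r)), a = AnStalkH3.mk f ⟨r, hr, hf⟩ →
        σ = germAt (D.U r) (D.mem_U hr) (D.sec hf) := by
  obtain ⟨f₀, ⟨r₀, hr₀, hf₀⟩, rfl⟩ := exists_rep a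
  refine ⟨germAt (D.U r₀) (D.mem_U hr₀) (D.sec hf₀), fun f r hr hf h => ?_⟩
  obtain ⟨N, hN, hN'⟩ := D.coord_eventually (mk_eq_mk.1 h)
  exact germAt_ext _ _ hN fun y hy hy' hyN => hN' y hyN hy.1

/-- A germ in the coordinates gives a germ on `X(ℂ)`. -/
def π₀ (a : O D.Coord) : AnStalk x := Classical.choose (D.exists_mkStalk a)

theorem π₀_mk {f : D.Coord → ℂ} {r : ℝ} (hr : 0 < r) (hf : DifferentiableOn ℂ f (Metric.ball 0 r)) :
    D.π₀ (AnStalkH3.mk f ⟨r, hr, hf⟩) = germAt (D.U r) (D.mem_U hr) (D.sec hf) :=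
  Classical.choose_spec (D.exists_mkStalk _) f r hr hf rfl

theorem exists_common (a b : O D.Coord) : ∃ (f g : D.Coord → ℂ) (r : ℝ) (hr : 0 < r)
    (hf : DifferentiableOn ℂ f (Metric.ball 0 r)) (hg : DifferentiableOn ℂ g (Metric.ball 0 r)),
    a = AnStalkH3.mk f ⟨r, hr, hf⟩ ∧ b = AnStalkH3.mk g ⟨r, hr, hg⟩ := by
  obtain ⟨f, ⟨r, hr, hf⟩, rfl⟩ := exists_rep a
  obtain ⟨g, ⟨r', hr', hg⟩, rfl⟩ := exists_rep b
  exact ⟨f, g, min r r', lt_min hr hr', hf.mono (Metric.ball_subset_ball (min_le_left _ _)),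
    hg.mono (Metric.ball_subset_ball (min_le_right _ _)), rfl, rfl⟩

/-- The surjection from coordinate germs onto the stalk. -/
def π : O D.Coord →+* AnStalk x where
  toFun := D.π₀
  map_one' := by
    rw [show (1 : O D.Coord) = AnStalkH3.mk 1 ⟨1, one_pos, differentiableOn_const _⟩ from rfl]
    refine (D.π₀_mk one_pos (f := fun _ => (1 : ℂ)) (differentiableOn_const _)).trans ?_
    exact (germAt_ext _ (show x ∈ D.U 1 from D.mem_U one_pos) univ_mem
      (g := (1 : holSub (D.U 1))) fun y hy hy' _ => rfl).trans (map_one _)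
  map_zero' := by
    rw [show (0 : O D.Coord) = AnStalkH3.mk 0 ⟨1, one_pos, differentiableOn_const _⟩ from rfl]
    refine (D.π₀_mk one_pos (f := fun _ => (0 : ℂ)) (differentiableOn_const _)).trans ?_
    exact (germAt_ext _ (show x ∈ D.U 1 from D.mem_U one_pos) univ_mem
      (g := (0 : holSub (D.U 1))) fun y hy hy' _ => rfl).trans (map_zero _)
  map_add' a b := by
    obtain ⟨f, g, r, hr, hf, hg, rfl, rfl⟩ := D.exists_common a b
    rw [show AnStalkH3.mk f ⟨r, hr, hf⟩ + AnStalkH3.mk g ⟨r, hr, hg⟩ = AnStalkH3.mk (f + g) ⟨r, hr, hf.add hg⟩ from rfl,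
      D.π₀_mk hr (hf.add hg), D.π₀_mk hr hf, D.π₀_mk hr hg]
    exact map_add ((anSpace X).presheaf.germ (D.U r) x (D.mem_U hr)).hom (D.sec hf) (D.sec hg)
  map_mul' a b := by
    obtain ⟨f, g, r, hr, hf, hg, rfl, rfl⟩ := D.exists_common a b
    rw [show AnStalkH3.mk f ⟨r, hr, hf⟩ * AnStalkH3.mk g ⟨r, hr, hg⟩ = AnStalkH3.mk (f * g) ⟨r, hr, hf.mul hg⟩ from rfl,
      D.π₀_mk hr (hf.mul hg), D.π₀_mk hr hf, D.π₀_mk hr hg]
    exact map_mul ((anSpace X).presheaf.germ (D.U r) x (D.mem_U hr)).hom (D.sec hf) (D.sec hg)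

theorem π_mk {f : D.Coord → ℂ} {r : ℝ} (hr : 0 < r) (hf : DifferentiableOn ℂ f (Metric.ball 0 r)) :
    D.π (AnStalkH3.mk f ⟨r, hr, hf⟩) = germAt (D.U r) (D.mem_U hr) (D.sec hf) :=
  D.π₀_mk hr hf

/-- A function given near `x` by a holomorphic function of the coordinates. -/
theorem germAt_eq_π {U : Opens (top X)} (hU : x ∈ U) (g : holSub U) {f : D.Coord → ℂ} (hf : HolAt f)
    {N : Set (Pts X)} (hN : N ∈ 𝓝 x)
    (h : ∀ y (hy : y ∈ U) (hW : y.pt ∈ D.W), y ∈ N → g.1 ⟨y, hy⟩ = f (D.co y hW)) :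
    germAt U hU g = D.π (AnStalkH3.mk f hf) := by
  obtain ⟨r, hr, hd⟩ := hf
  rw [D.π_mk hr hd]
  exact germAt_ext _ _ hN fun y hy hy' hyN => h y hy hy'.1 hyN

theorem exists_of_chartAlg {U : Opens (top X)} (hU : x ∈ U) {g : U → ℂ} (hg : g ∈ chartAlg U) :
    ∃ (f : D.Coord → ℂ) (_ : HolAt f) (N : Set (Pts X)), N ∈ 𝓝 x ∧
      ∀ y (hy : y ∈ U) (hW : y.pt ∈ D.W), y ∈ N → g ⟨y, hy⟩ = f (D.co y hW) := by
  induction hg using Algebra.adjoin_induction with
  | mem g hg =>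
    obtain ⟨W', hW', m, t, V, G, hV, hG, hgv⟩ := hg
    have hxW' : x.pt ∈ W' := hW' ⟨x, hU⟩
    choose A H hH hdiv using fun l => D.exists_div W' (t l) hxW'
    let q : D.Coord → Fin m → ℂ := fun z l => MvPolynomial.eval z (A l) / MvPolynomial.eval z (H l)
    have hcont : ∀ (P : MvPolynomial (Fin D.n) ℂ), Differentiable ℂ fun z : D.Coord => MvPolynomial.eval z P :=
      fun P => by
        induction P using MvPolynomial.induction_on with
        | C c => simp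
        | add p q hp hq => simp only [map_add]; exact hp.add hq
        | mul_X p i hp => simp only [map_mul, MvPolynomial.eval_X]; exact hp.mul (differentiable_apply i)
    have hne : ∀ᶠ z in 𝓝 (0 : D.Coord), ∀ l, MvPolynomial.eval z (H l) ≠ 0 :=
      eventually_all.2 fun l => (hcont (H l)).continuous.continuousAt.eventually_ne (hH l)
    obtain ⟨N₁, hN₁, hN₁'⟩ := D.coord_eventually hne
    have hq : DifferentiableOn ℂ q {z | ∀ l, MvPolynomial.eval z (H l) ≠ 0} := by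
      refine differentiableOn_pi.2 fun l => ?_
      simp only [q, div_eq_mul_inv]
      exact (hcont (A l)).differentiableOn.mul
        ((hcont (H l)).differentiableOn.inv fun z hz => hz l)
    have hval : ∀ y (hy : y ∈ U) (hW : y.pt ∈ D.W), (∀ l, MvPolynomial.eval (D.co y hW) (H l) ≠ 0) →
        (fun l => Pts.ev y W' (hW' ⟨y, hy⟩) (t l)) = q (D.co y hW) :=
      fun y hy hW h => funext fun l => by
        obtain ⟨hyU, e⟩ := hdiv l y hW (h l)
        exact e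
    have hq0 : q 0 ∈ V := by
      have h0 := (hgv ⟨x, hU⟩).1
      rwa [hval x hU D.hx (fun l => by rw [co_base]; exact hH l), co_base] at h0
    have hS : {z : D.Coord | ∀ l, MvPolynomial.eval z (H l) ≠ 0} ∩ q ⁻¹' V ∈ 𝓝 0 :=
      Filter.inter_mem hne ((hq.continuousOn.continuousAt hne).preimage_mem_nhds (hV.mem_nhds hq0))
    refine ⟨G ∘ q, holAt_of_nhds hS (hG.comp (hq.mono Set.inter_subset_left) fun z hz => hz.2),
      N₁, hN₁, fun y hy hW hyN => ?_⟩
    rw [(hgv ⟨y, hy⟩).2, Function.comp_apply, ← hval y hy hW (hN₁' y hyN hW)]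
  | algebraMap c =>
    exact ⟨fun _ => c, holAt_of_differentiable (differentiable_const c), _, univ_mem, fun _ _ _ _ => rfl⟩
  | add g g' _ _ hg hg' =>
    obtain ⟨f, hf, N, hN, h⟩ := hg
    obtain ⟨f', hf', N', hN', h'⟩ := hg'
    exact ⟨f + f', hf.add hf', N ∩ N', Filter.inter_mem hN hN', fun y hy hW hyN => by
      simp only [Pi.add_apply, h y hy hW hyN.1, h' y hy hW hyN.2]⟩
  | mul g g' _ _ hg hg' =>
    obtain ⟨f, hf, N, hN, h⟩ := hg
    obtain ⟨f', hf', N', hN', h'⟩ := hg'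
    exact ⟨f * f', hf.mul hf', N ∩ N', Filter.inter_mem hN hN', fun y hy hW hyN => by
      simp only [Pi.mul_apply, h y hy hW hyN.1, h' y hy hW hyN.2]⟩

theorem π_surjective : Function.Surjective D.π := by
  intro σ
  obtain ⟨U, hU, g, rfl⟩ := germAt_surjective σ
  obtain ⟨V, hxV, i, hgV⟩ := g.2 ⟨x, hU⟩
  obtain ⟨f, hf, N, hN, h⟩ := D.exists_of_chartAlg hxV hgV
  refine ⟨AnStalkH3.mk f hf, (D.germAt_eq_π hU g hf (Filter.inter_mem hN (V.2.mem_nhds hxV)) ?_).symm⟩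
  exact fun y hy hW hyN => h y hyN.2 hW hyN.1

/-- Scalars and coordinates give the algebraic functions. -/
theorem φ_germ (p : MvPolynomial (Fin D.n) ℂ) :
    φ x (X.presheaf.germ D.W x.pt D.hx (MvPolynomial.eval₂Hom (strW D.W) D.s p)) =
      D.π (polyGerm D.n p) := by
  obtain ⟨h, e⟩ := polyGerm_eq D.n p
  rw [e]
  have hst := PresheafedSpace.stalkMap_germ (anToScheme X) D.W x D.hx
  have := congrArg (fun m => (ConcreteCategory.hom m) (MvPolynomial.eval₂Hom (strW D.W) D.s p)) hst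
  refine this.trans (D.germAt_eq_π (show x ∈ _ from D.hx) _ h univ_mem fun y hy hW _ => ?_)
  change Pts.ev y D.W hy (MvPolynomial.eval₂Hom (strW D.W) D.s p) = _
  exact congrArg (fun ψ : MvPolynomial (Fin D.n) ℂ →+* ℂ => ψ p)
    (MvPolynomial.ringHom_ext
      (f := (Groth.Agent.AnLib.evalHom y D.W hy).comp (MvPolynomial.eval₂Hom (strW D.W) D.s))
      (g := MvPolynomial.eval (D.co y hW))
      (fun c => by simpa [Groth.Agent.AnLib.ev_eq] using ev_strW D.W y hy c)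
      (fun i => by simp; rfl))

theorem π_eq_zero_iff {f : D.Coord → ℂ} (hf : HolAt f) :
    D.π (AnStalkH3.mk f hf) = 0 ↔ ∃ N ∈ 𝓝 x, ∀ y ∈ N, ∀ hy : y.pt ∈ D.W, f (D.co y hy) = 0 := by
  obtain ⟨r, hr, hd⟩ := hf
  have h0 : (0 : AnStalk x) = germAt (D.U r) (D.mem_U hr) 0 := (map_zero _).symm
  rw [D.π_mk hr hd, h0]
  constructor
  · intro h
    obtain ⟨N, hN, h⟩ := eventually_of_germAt_eq h
    refine ⟨N ∩ SetLike.coe (D.U r), Filter.inter_mem hN ((D.U r).2.mem_nhds (D.mem_U hr)), fun y hy hyW => ?_⟩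
    exact h y hy.2 hy.2 hy.1
  · rintro ⟨N, hN, h⟩
    exact germAt_ext _ _ hN fun y hy hy' hyN => h y hyN hy.1

end Chart

end AnStalkH3
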