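import Groth.Agent.AnStalkH3.Square
import Groth.Agent.FlatLocal.StalkCrit

/-!
# Unramified morphisms in terms of analytic stalks
-/

open AlgebraicGeometry CategoryTheory TopologicalSpace Topology IsLocalRing

noncomputable section

set_option backward.isDefEq.respectTransparency.types false

namespace AnStalkH3

open An

variable {X Y : Scheme.{0}} [X.Over SC] [Y.Over SC] (f : X ⟶ Y) [f.IsOver SC]

theorem exists_sub_mem_residue (x : Pts X) (b : X.presheaf.stalk x.pt) :
    ∃ a, b - algStalkMap f x a ∈ maximalIdeal (X.presheaf.stalk x.pt) := by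
  obtain ⟨U, hU, t, rfl⟩ := X.presheaf.exists_germ_eq b
  refine ⟨Y.presheaf.germ ⊤ (Pts.map f x).pt trivial (An.strHom Y (x.ev U hU t)), ?_⟩
  have e1 := congrArg (fun m => (ConcreteCategory.hom m) (An.strHom Y (x.ev U hU t)))
    (Scheme.Hom.germ_stalkMap f ⊤ x.pt (show f x.pt ∈ (⊤ : Y.Opens) from trivial))
  have e1' : algStalkMap f x (Y.presheaf.germ ⊤ (Pts.map f x).pt trivial (An.strHom Y (x.ev U hU t))) =
      X.presheaf.germ (f ⁻¹ᵁ ⊤) x.pt (show f x.pt ∈ (⊤ : Y.Opens) from trivial) (f.app ⊤ (An.strHom Y (x.ev U hU t))) := e1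
  rw [e1']
  erw [← TopCat.Presheaf.germ_res_apply X.presheaf (homOfLE (le_top : U ≤ f ⁻¹ᵁ ⊤)) x.pt hU,
    ← map_sub]
  rw [IsLocalRing.mem_maximalIdeal, mem_nonunits_iff]
  intro hunit
  rw [← Scheme.mem_basicOpen] at hunit
  refine (Groth.Agent.AnLib.ev_ne_zero_iff x U hU _).2 hunit ?_
  rw [Groth.Agent.AnLib.ev_eq, map_sub, sub_eq_zero]
  change x.ev U hU t = x.ev U hU _
  refine Eq.trans ?_ (Groth.Agent.AnLib.ev_res x (show U ≤ f ⁻¹ᵁ ⊤ from le_top) hU
    (f.app ⊤ (An.strHom Y (x.ev U hU t)))).symm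
  exact (Groth.Agent.AnLib.evTop_strHom (Pts.map f x) _).symm.trans (Pts.ev_map f x ⊤ trivial _)

variable [LocallyOfFiniteType (X ↘ SC)]

include f in
theorem formallyUnramified_stalk_iff [LocallyOfFiniteType f] (x : Pts X) :
    (f.stalkMap x.pt).hom.FormallyUnramified ↔
      (maximalIdeal (Y.presheaf.stalk (Pts.map f x).pt)).map (algStalkMap f x) =
        maximalIdeal (X.presheaf.stalk x.pt) := by
  rw [Groth.Agent.FlatLocal.formallyUnramified_stalkMap_iff]
  refine and_iff_right_of_imp fun _ => ?_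
  letI := (f.residueFieldMap x.pt).hom.toAlgebra
  refine ⟨fun z => ?_⟩
  obtain ⟨b, rfl⟩ := IsLocalRing.residue_surjective z
  obtain ⟨a, ha⟩ := exists_sub_mem_residue f x b
  have : IsLocalRing.residue (X.presheaf.stalk x.pt) b =
      algebraMap (Y.residueField (f x.pt)) (X.residueField x.pt)
        (IsLocalRing.residue (Y.presheaf.stalk (f x.pt)) a) := Ideal.Quotient.eq.2 ha
  rw [this]
  exact isSeparable_algebraMap _

variable [LocallyOfFiniteType (Y ↘ SC)] [IsReduced X]

include f in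
theorem formallyUnramified_stalk_iff_an [LocallyOfFiniteType f] (x : Pts X) :
    (f.stalkMap x.pt).hom.FormallyUnramified ↔
      (maximalIdeal (AnStalk (Pts.map f x))).map (anStalkMap f x) = maximalIdeal (AnStalk x) := by
  rw [formallyUnramified_stalk_iff, ← map_maximalIdeal (x := Pts.map f x), Ideal.map_map,
    ← square f x, ← Ideal.map_map, ← map_maximalIdeal (x := x)]
  refine ⟨fun h => by rw [h], fun h => ?_⟩
  letI := (φ x).toAlgebra
  obtain ⟨_, _, -⟩ := facts x
  have := congrArg (Ideal.comap (algebraMap (X.presheaf.stalk x.pt) (AnStalk x))) h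
  rwa [show φ x = algebraMap (X.presheaf.stalk x.pt) (AnStalk x) from rfl,
    Ideal.comap_map_eq_self_of_faithfullyFlat, Ideal.comap_map_eq_self_of_faithfullyFlat] at this

end AnStalkH3
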